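import Mathlib

/-!
# In characteristic two every element of odd order of the two-dimensional linear group is inverted
by an involution
-/

set_option autoImplicit false
set_option linter.unusedSectionVars false

namespace Cfsg.Agent.SubConj42

open Matrix Subgroup

variable {F : Type*} [Field F] [CharP F 2]

theorem sl_center_eq_bot : center (Matrix.SpecialLinearGroup (Fin 2) F) = ⊥ := by
  refine (Subgroup.eq_bot_iff_forall _).2 fun A hA => ?_
  obtain ⟨a, ha, hA'⟩ := Matrix.SpecialLinearGroup.mem_center_iff.1 hA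
  rw [Fintype.card_fin] at ha
  have h1 : (a - 1) * (a - 1) = 0 := by
    have h2 := CharTwo.add_self_eq_zero a
    have h3 := CharTwo.add_self_eq_zero (1 : F)
    linear_combination ha - h2 + h3
  have ha1 : a = 1 := sub_eq_zero.1 (mul_self_eq_zero.1 h1)
  apply Subtype.ext
  rw [← hA', ha1, map_one]
  rfl

theorem sl_sq_eq_one {A : Matrix.SpecialLinearGroup (Fin 2) F} (h : A 0 0 + A 1 1 = 0) : A * A = 1 := by
  have h0 : A 0 0 = A 1 1 := CharTwo.add_eq_zero.1 h
  have hd : A 0 0 * A 1 1 - A 0 1 * A 1 0 = 1 := by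
    rw [← Matrix.det_fin_two, A.det_coe]
  rw [CharTwo.sub_eq_add] at hd
  refine Matrix.SpecialLinearGroup.ext _ _ fun i j => ?_
  rw [Matrix.SpecialLinearGroup.coe_mul, Matrix.SpecialLinearGroup.coe_one, Matrix.mul_apply, Fin.sum_univ_two]
  have t1 := CharTwo.add_self_eq_zero (A 1 1 * A 0 1)
  have t2 := CharTwo.add_self_eq_zero (A 1 1 * A 1 0)
  fin_cases i <;> fin_cases j <;> simp [h0] <;>
    first
    | linear_combination hd
    | linear_combination hd - (A 0 0 + A 1 1) * CharTwo.add_self_eq_zero (0 : F)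
    | linear_combination t1
    | linear_combination t2
    | linear_combination (by rw [h0] at hd; linear_combination hd : A 1 1 * A 1 1 + A 0 1 * A 1 0 = 1)

/-- An element of odd order is inverted by an involution. -/
theorem sl_exists_inverting [Finite F] {A : Matrix.SpecialLinearGroup (Fin 2) F} (hA : Odd (orderOf A))
    (hA1 : A ≠ 1) : ∃ U : Matrix.SpecialLinearGroup (Fin 2) F, U * U = 1 ∧ U ≠ 1 ∧ U * A * U⁻¹ = A⁻¹ := by
  have hd : A 0 0 * A 1 1 - A 0 1 * A 1 0 = 1 := by rw [← Matrix.det_fin_two, A.det_coe]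
  have htr : A 0 0 + A 1 1 ≠ 0 := fun h => hA1 <| orderOf_eq_one_iff.1 <|
    Nat.eq_one_of_dvd_coprimes hA.coprime_two_right dvd_rfl
      (orderOf_dvd_of_pow_eq_one (by rw [pow_two]; exact sl_sq_eq_one h))
  suffices ∃ M : Matrix (Fin 2) (Fin 2) F, M.det = 1 ∧ M 0 0 + M 1 1 = 0 ∧ M ≠ 1 ∧
      (M * (A : Matrix (Fin 2) (Fin 2) F)) 0 0 + (M * (A : Matrix (Fin 2) (Fin 2) F)) 1 1 = 0 by
    obtain ⟨M, hM, hU, hU1, hUA⟩ := this
    set U : Matrix.SpecialLinearGroup (Fin 2) F := ⟨M, hM⟩ with hUdef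
    have h1 : U * U = 1 := sl_sq_eq_one hU
    refine ⟨U, h1, fun e => hU1 (congrArg Subtype.val e), eq_inv_of_mul_eq_one_left ?_⟩
    rw [inv_eq_of_mul_eq_one_right h1]
    calc U * A * U * A = U * A * (U * A) := by group
      _ = 1 := sl_sq_eq_one hUA
  by_cases hc : A 1 0 = 0
  · by_cases hb : A 0 1 = 0
    · refine ⟨!![0, 1; 1, 0], ?_, ?_, fun e => ?_, ?_⟩
      · simp [Matrix.det_fin_two, CharTwo.neg_eq]
      · simp
      · simpa using congrArg (fun M : Matrix (Fin 2) (Fin 2) F => M 0 0) e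
      · simp [Matrix.mul_apply, Fin.sum_univ_two, hb, hc]
    · refine ⟨!![1, 0; (A 0 0 + A 1 1) / A 0 1, 1], ?_, ?_, fun e => ?_, ?_⟩
      · simp [Matrix.det_fin_two]
      · simp [CharTwo.add_self_eq_zero]
      · exact div_ne_zero htr hb
          (by simpa using congrArg (fun M : Matrix (Fin 2) (Fin 2) F => M 1 0) e)
      · simp [Matrix.mul_apply, Fin.sum_univ_two]
        field_simp
        linear_combination CharTwo.add_self_eq_zero (A 0 0 + A 1 1)
  · refine ⟨!![1, (A 0 0 + A 1 1) / A 1 0; 0, 1], ?_, ?_, fun e => ?_, ?_⟩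
    · simp [Matrix.det_fin_two]
    · simp [CharTwo.add_self_eq_zero]
    · exact div_ne_zero htr hc
        (by simpa using congrArg (fun M : Matrix (Fin 2) (Fin 2) F => M 0 1) e)
    · simp [Matrix.mul_apply, Fin.sum_univ_two]
      field_simp
      linear_combination CharTwo.add_self_eq_zero (A 0 0 + A 1 1)

end Cfsg.Agent.SubConj42
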