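import Cfsg.Agent.SubConj42.NonNormal
import Cfsg.Agent.S0201
import Cfsg.Agent.Huppert69.RegularSL
import Cfsg.Agent.FPFStructure.Solvable120

/-!
# The list of groups without odd core in which subgroups of the same order are conjugate
-/

set_option autoImplicit false
set_option linter.style.haveILetI false
set_option linter.unusedSectionVars false

namespace Cfsg.Agent.SubConj42

open Subgroup MulAction Cfsg
open scoped Pointwise

variable {G : Type*} [Group G] [Finite G]

theorem quaternion_facts :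
    (∀ a : QuaternionGroup 2, a ^ 4 = 1) ∧
    (∀ a : QuaternionGroup 2, a * a = 1 → a = 1 ∨ a = QuaternionGroup.a 2) := by
  refine ⟨fun a => ?_, fun a h => ?_⟩
  · rcases a with i | i <;> fin_cases i <;> decide
  · rcases a with i | i <;> fin_cases i <;> revert h <;> decide

/-- A quaternion Sylow 2-subgroup. -/
theorem quaternion_case (hC : ConjSub G) (hfree : OFree G) (S : Sylow 2 G)
    (e : (S : Subgroup G) ≃* QuaternionGroup 2) :
    Nonempty (G ≃* Matrix.SpecialLinearGroup (Fin 2) (ZMod 3)) ∨
      Nonempty (G ≃* Matrix.SpecialLinearGroup (Fin 2) (ZMod 5)) := by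
  haveI := Fact.mk Nat.prime_two
  have hZ : Nat.card (center G) = 2 := S0201.result S 0 e hfree
  set Z := center G with hZdef
  set π := QuotientGroup.mk' Z with hπ
  have hsurj : Function.Surjective π := QuotientGroup.mk'_surjective _
  have hS8 : Nat.card (S : Subgroup G) = 8 := by
    rw [Nat.card_congr e.toEquiv, Nat.card_eq_fintype_card, QuaternionGroup.card]
  have hZS : Z ≤ (S : Subgroup G) :=
    (Thompson.le_pCore (inferInstance : Z.Normal)
      (IsPGroup.of_card (n := 1) (by rw [hZ, pow_one]))).trans (Thompson.pCore_le_sylow S)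
  have hQfree : OFree (G ⧸ Z) := by
    intro N hN ho
    haveI := hN
    set M := N.comap π with hM
    haveI : M.Normal := hN.comap π
    have hMcard : Nat.card M = 2 * Nat.card N := by
      rw [hM, hπ, Thompson.card_comap_quotient, hZ, mul_comm]
    have hZM : Z ≤ M := fun z hz => by
      rw [hM, Subgroup.mem_comap, show π z = 1 from (QuotientGroup.eq_one_iff z).2 hz]
      exact one_mem N
    have hfac : (Nat.card M).factorization 2 = 1 := by
      rw [hMcard, Nat.factorization_mul two_ne_zero Nat.card_pos.ne']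
      simp [Nat.prime_two.factorization_self,
        Nat.factorization_eq_zero_of_not_dvd (fun h => (Nat.not_even_iff_odd.2 ho) (even_iff_two_dvd.2 h))]
    let T : Sylow 2 M := Sylow.ofCard (Z.subgroupOf M) (by
      rw [Nat.card_congr (Subgroup.subgroupOfEquivOfLe hZM).toEquiv, hZ, hfac, pow_one])
    have h1 := (hfree.of_normal M).eq_top_of_burnside T (fun c _ =>
      Subgroup.mem_centralizer_iff.2 fun s hs =>
        Subtype.ext ((Subgroup.mem_center_iff.1 (show (s : G) ∈ Z from hs) (c : G)).symm))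
    have h2 : M ≤ Z := Subgroup.subgroupOf_eq_top.1 h1
    refine (Subgroup.eq_bot_iff_forall _).2 fun q hq => ?_
    obtain ⟨g, rfl⟩ := hsurj q
    exact (QuotientGroup.eq_one_iff g).2 (h2 hq)
  -- the image of the Sylow subgroup
  set Sq : Sylow 2 (G ⧸ Z) := S.mapSurjective hsurj with hSq
  have hSq4 : Nat.card (Sq : Subgroup (G ⧸ Z)) = 4 := by
    rw [hSq, Sylow.coe_mapSurjective]
    have h1 := Thompson.card_comap_quotient Z ((S : Subgroup G).map π)
    rw [hπ, Subgroup.comap_map_eq, QuotientGroup.ker_mk', sup_eq_left.2 hZS, hS8, hZ] at h1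
    rw [hπ]
    omega
  have hz : ∃ z ∈ Z, z ≠ 1 := by
    haveI : Nontrivial Z := Finite.one_lt_card_iff_nontrivial.1 (by rw [hZ]; norm_num)
    obtain ⟨⟨z, hz⟩, hz1⟩ := exists_ne (1 : Z)
    exact ⟨z, hz, fun e => hz1 (Subtype.ext e)⟩
  obtain ⟨z, hzZ, hz1⟩ := hz
  have hzz : z * z = 1 := by
    have := congrArg Subtype.val (pow_card_eq_one' (G := Z) (x := ⟨z, hzZ⟩))
    rw [hZ, pow_two] at this
    exact this
  have hsq : ∀ s ∈ (S : Subgroup G), s * s ∈ Z := by
    intro s hs
    have h4 : e ⟨s, hs⟩ * e ⟨s, hs⟩ * (e ⟨s, hs⟩ * e ⟨s, hs⟩) = 1 := by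
      rw [← pow_two, ← pow_two, ← pow_mul]
      exact quaternion_facts.1 (e ⟨s, hs⟩)
    have hze : e ⟨z, hZS hzZ⟩ = QuaternionGroup.a 2 := by
      refine (quaternion_facts.2 _ ?_).resolve_left fun he => hz1 ?_
      · rw [← map_mul, ← map_one e]
        exact congrArg e (Subtype.ext hzz)
      · exact congrArg Subtype.val (e.injective (he.trans (map_one e).symm))
    rcases quaternion_facts.2 _ h4 with he | he
    · have : (⟨s, hs⟩ : (S : Subgroup G)) * ⟨s, hs⟩ = 1 := e.injective (by rw [map_mul, map_one, he])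
      have h := congrArg Subtype.val this
      simp only [Subgroup.coe_mul, Subgroup.coe_one] at h
      rw [h]; exact one_mem Z
    · have : (⟨s, hs⟩ : (S : Subgroup G)) * ⟨s, hs⟩ = ⟨z, hZS hzZ⟩ :=
        e.injective (by rw [map_mul, he, hze])
      have h := congrArg Subtype.val this
      simp only [Subgroup.coe_mul] at h
      rw [h]; exact hzZ
  have hel : IsElementaryAbelian 2 (Sq : Subgroup (G ⧸ Z)) := by
    have h2 : ∀ a ∈ (Sq : Subgroup (G ⧸ Z)), a ^ 2 = 1 := by
      rw [hSq, Sylow.coe_mapSurjective]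
      rintro _ ⟨s, hs, rfl⟩
      rw [pow_two, ← map_mul]
      exact (QuotientGroup.eq_one_iff _).2 (hsq s hs)
    refine ⟨⟨⟨fun a b => Subtype.ext ?_⟩⟩, h2⟩
    have ha := inv_eq_of_mul_eq_one_right ((pow_two _).symm.trans (h2 _ a.2))
    have hb := inv_eq_of_mul_eq_one_right ((pow_two _).symm.trans (h2 _ b.2))
    have hab := inv_eq_of_mul_eq_one_right ((pow_two _).symm.trans (h2 _ (mul_mem a.2 b.2)))
    rw [mul_inv_rev, ha, hb] at hab
    exact hab.symm
  have hE := elem_of_sylow Sq hel
  have hcardG : ∀ {H : Type} [Group H], Nonempty (G ⧸ Z ≃* H) → Nat.card G = 2 * Nat.card H := by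
    rintro H _ ⟨f⟩
    rw [Subgroup.card_eq_card_quotient_mul_card_subgroup Z, hZ, Nat.card_congr f.toEquiv, mul_comm]
  have hP : ∀ P : Sylow 2 G, Nonempty ((P : Subgroup G) ≃* QuaternionGroup 2) :=
    fun P => ⟨(P.equiv S).trans e⟩
  by_cases hN : (Sq : Subgroup (G ⧸ Z)).Normal
  · rcases normal_case (hC.quotient Z) hQfree hE Sq hN (n := 2) le_rfl hSq4 with ⟨-, h⟩ | ⟨h, -⟩
    · left
      have h24 : Nat.card G = 24 := by
        rw [hcardG h, nat_card_alternatingGroup, Nat.card_fin]
        rfl
      have hnc : ¬ HasNormalPComplement 2 G := by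
        rintro ⟨P, K, hK, hc⟩
        have := hfree.eq_top_of_complement P hK hc
        have h8 : Nat.card (P : Subgroup G) = 8 := by
          rw [Nat.card_congr (P.equiv S).toEquiv, hS8]
        rw [this, Subgroup.card_top] at h8
        omega
      obtain ⟨Q, a, b, y, -, hrot, -⟩ := ZStar.exists_rotation_of_no_complement S e hnc
      exact Huppert69.equiv_sl23 h24 hrot
    · omega
  · rcases nonnormal_case (hC.quotient Z) hQfree hE Sq hN (n := 2) le_rfl hSq4 with
      ⟨-, h⟩ | ⟨h, -⟩ | ⟨h, -⟩
    · right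
      have h120 : Nat.card G = 120 := by
        rw [hcardG h, nat_card_alternatingGroup, Nat.card_fin]
        rfl
      refine FPFStructure.equiv_sl_of_120 h120 ?_ hP
      intro hsol
      haveI := hsol
      obtain ⟨f⟩ := h
      haveI : Group.IsSolvable (alternatingGroup (Fin 5)) :=
        Group.isSolvable_of_surjective (f := f.toMonoidHom.comp π)
          (f.surjective.comp hsurj)
      haveI : IsSimpleGroup (alternatingGroup (Fin 5)) := alternatingGroup.isSimpleGroup_five
      have hcomm := IsSimpleGroup.comm_iff_isSolvable.2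
        (inferInstance : Group.IsSolvable (alternatingGroup (Fin 5)))
      revert hcomm
      decide
    · omega
    · omega

/-- The list. -/
theorem classify (hC : ConjSub G) (hfree : OFree G) :
    (IsCyclic G ∧ IsPGroup 2 G) ∨
    Nonempty (G ≃* affineGroup (GaloisField 2 3)) ∨
    Nonempty (G ≃* semiaffineGroup (GaloisField 2 3)) ∨
    Nonempty (G ≃* semiaffineGroup (GaloisField 2 5)) ∨
    Nonempty (G ≃* Matrix.ProjectiveSpecialLinearGroup (Fin 2) (GaloisField 2 3)) ∨
    Nonempty (G ≃* MulAut (Matrix.ProjectiveSpecialLinearGroup (Fin 2) (GaloisField 2 5))) ∨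
    Nonempty (G ≃* alternatingGroup (Fin 4)) ∨
    Nonempty (G ≃* alternatingGroup (Fin 5)) ∨
    Nonempty (G ≃* Matrix.SpecialLinearGroup (Fin 2) (ZMod 3)) ∨
    Nonempty (G ≃* Matrix.SpecialLinearGroup (Fin 2) (ZMod 5)) := by
  haveI := Fact.mk Nat.prime_two
  obtain ⟨S⟩ := (inferInstance : Nonempty (Sylow 2 G))
  by_cases hcyc : IsCyclic (S : Subgroup G)
  · refine Or.inl ?_
    have htop := hfree.eq_top_of_isCyclic S hcyc
    let f : (S : Subgroup G) ≃* G := (MulEquiv.subgroupCongr htop).trans Subgroup.topEquiv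
    exact ⟨isCyclic_of_surjective f f.surjective, S.2.of_equiv f⟩
  rcases S4023.result (fun H K _ _ h => hC H K h) S with h | h | ⟨-, ⟨e⟩⟩ | ⟨h, -⟩
  · exact absurd h hcyc
  · have hE := elem_of_sylow S h
    obtain ⟨n, hn⟩ := S.2.exists_card_eq
    have hn2 : 2 ≤ n := by
      by_contra hlt
      rcases (show n = 0 ∨ n = 1 by omega) with rfl | rfl
      · haveI : Subsingleton (S : Subgroup G) :=
          (Nat.card_eq_one_iff_unique.1 (by rw [hn, pow_zero])).1
        exact hcyc inferInstance
      · exact hcyc (isCyclic_of_prime_card (p := 2) (by rw [hn, pow_one]))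
    by_cases hS : (S : Subgroup G).Normal
    · rcases normal_case hC hfree hE S hS hn2 hn with ⟨-, h⟩ | ⟨-, h | h | h⟩
      · exact .inr (.inr (.inr (.inr (.inr (.inr (.inl h))))))
      · exact .inr (.inl h)
      · exact .inr (.inr (.inl h))
      · exact .inr (.inr (.inr (.inl h)))
    · rcases nonnormal_case hC hfree hE S hS hn2 hn with ⟨-, h⟩ | ⟨-, h⟩ | ⟨-, h⟩
      · exact .inr (.inr (.inr (.inr (.inr (.inr (.inr (.inl h)))))))
      · exact .inr (.inr (.inr (.inr (.inl h))))
      · exact .inr (.inr (.inr (.inr (.inr (.inl h)))))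
  · rcases quaternion_case hC hfree S e with h | h
    · exact .inr (.inr (.inr (.inr (.inr (.inr (.inr (.inr (.inl h))))))))
    · exact .inr (.inr (.inr (.inr (.inr (.inr (.inr (.inr (.inr h))))))))
  · exact absurd rfl h

end Cfsg.Agent.SubConj42
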