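import Cfsg.Agent.SubConj42.Elem
import Cfsg.Agent.S4023

/-!
# The automiser of an elementary abelian Sylow 2-subgroup which is not normal
-/

set_option autoImplicit false
set_option linter.style.haveILetI false
set_option linter.unusedSectionVars false

namespace Cfsg.Agent.SubConj42

open Subgroup MulAction Cfsg
open scoped Pointwise

variable {G : Type*} [Group G] [Finite G]

/-- The subgroup generated by the involutions. -/
def invClosure (G : Type*) [Group G] : Subgroup G := closure {v : G | orderOf v = 2}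

instance invClosure_normal : (invClosure G).Normal := closure_involutions_normal

theorem le_invClosure (hE : Elem G) (S : Sylow 2 G) : (S : Subgroup G) ≤ invClosure G :=
  closure_involutions_ge hE S

/-- The automorphisms of `S` induced by the involution-generated subgroup. -/
def autM (S : Sylow 2 G) : Subgroup (MulAut (S : Subgroup G)) :=
  ((invClosure G).subgroupOf (normalizer ((S : Subgroup G) : Set G))).map
    (S : Subgroup G).normalizerMonoidHom

theorem autM_le (S : Sylow 2 G) : autM S ≤ (S : Subgroup G).normalizerMonoidHom.range :=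
  Subgroup.map_le_range _ _

theorem card_range_mul (S : Sylow 2 G) :
    Nat.card (S : Subgroup G).normalizerMonoidHom.range *
        Nat.card (centralizer ((S : Subgroup G) : Set G)) =
      Nat.card (normalizer ((S : Subgroup G) : Set G)) := by
  rw [← Subgroup.index_ker, Subgroup.normalizerMonoidHom_ker,
    ← Nat.card_congr (Subgroup.subgroupOfEquivOfLe (centralizer_le_normalizer_self S)).toEquiv,
    mul_comm]
  exact Subgroup.card_mul_index _

theorem normalizerMonoidHom_eq_one_iff (S : Sylow 2 G) {x : G}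
    (hx : x ∈ normalizer ((S : Subgroup G) : Set G)) :
    (S : Subgroup G).normalizerMonoidHom ⟨x, hx⟩ = 1 ↔
      x ∈ centralizer ((S : Subgroup G) : Set G) := by
  rw [← MonoidHom.mem_ker, Subgroup.normalizerMonoidHom_ker, Subgroup.mem_subgroupOf]

theorem autM_ne_bot (hfree : OFree G) (hE : Elem G) (S : Sylow 2 G)
    (hS : ¬ (S : Subgroup G).Normal) : autM S ≠ ⊥ := by
  intro hb
  haveI := Fact.mk Nat.prime_two
  have hle := le_invClosure hE S
  have h1 := (hfree.of_normal (invClosure G)).eq_top_of_burnside (S.subtype hle) (by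
    intro w hw
    have hwN : (w : G) ∈ normalizer ((S : Subgroup G) : Set G) := by
      rw [Subgroup.mem_normalizer_iff]
      intro z
      constructor
      · intro hz
        exact (Subgroup.mem_normalizer_iff.1 hw ⟨z, hle hz⟩).1 hz
      · intro hz
        have hzM : z ∈ invClosure G := by
          have h2 := mul_mem (mul_mem (inv_mem w.2) (hle hz)) w.2
          rwa [show (w : G)⁻¹ * ((w : G) * z * (w : G)⁻¹) * w = z by group] at h2
        exact (Subgroup.mem_normalizer_iff.1 hw ⟨z, hzM⟩).2 hz
    have h2 : (S : Subgroup G).normalizerMonoidHom ⟨w, hwN⟩ ∈ autM S := ⟨_, w.2, rfl⟩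
    rw [hb, mem_bot, normalizerMonoidHom_eq_one_iff] at h2
    rw [Subgroup.mem_centralizer_iff]
    intro s hs
    exact Subtype.ext (Subgroup.mem_centralizer_iff.1 h2 (s : G) hs))
  rw [Sylow.coe_subtype, Subgroup.subgroupOf_eq_top] at h1
  have he : invClosure G = (S : Subgroup G) := le_antisymm h1 hle
  exact hS (he ▸ invClosure_normal)

/-- A `g`-element normalising `S` fixes an involution of `S` unless `g` divides their number. -/
theorem exists_fixed (hE : Elem G) (S : Sylow 2 G) {g : ℕ} (hg : g.Prime)
    (hgq : ¬ g ∣ Nat.card (S : Subgroup G) - 1) {x : G}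
    (hx : x ∈ normalizer ((S : Subgroup G) : Set G)) (hxo : IsPGroup g (zpowers x)) :
    ∃ t ∈ (S : Subgroup G), orderOf t = 2 ∧ Commute t x := by
  haveI := Fact.mk hg
  by_contra hno
  push Not at hno
  letI : MulAction (zpowers x) (S : Subgroup G) :=
    MulAction.compHom _ ((S : Subgroup G).normalizerMonoidHom.comp
      (Subgroup.inclusion (zpowers_le.2 hx)))
  have hmod := hxo.card_modEq_card_fixedPoints (α := (S : Subgroup G))
  have hfix : fixedPoints (zpowers x) (S : Subgroup G) = {1} := by
    ext s
    constructor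
    · intro hs
      by_contra hs1
      refine hno (s : G) s.2 (hE.orderOf_eq s.2 fun e => hs1 (Subtype.ext e)) ?_
      have := congrArg Subtype.val (hs ⟨x, mem_zpowers x⟩)
      change x * (s : G) * x⁻¹ = s at this
      exact (mul_inv_eq_iff_eq_mul.1 this).symm
    · rintro rfl a
      apply Subtype.ext
      show (a : G) * 1 * (a : G)⁻¹ = 1
      group
  rw [hfix, Nat.card_unique (α := ({1} : Set (S : Subgroup G)))] at hmod
  exact hgq ((Nat.modEq_iff_dvd' Nat.card_pos).1 hmod.symm)

/-- The fixed involutions of a non-centralising element of order `g`. -/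
theorem card_fixed (_hE : Elem G) (S : Sylow 2 G) {g n : ℕ} (hg : g.Prime)
    (hcard : Nat.card (S : Subgroup G) = 2 ^ n)
    (hfix : ∀ a, 2 ≤ a → a < n → ¬ g ∣ 2 ^ n - 2 ^ a) (hgq : ¬ g ∣ 2 ^ n - 1) {σ : G}
    (hσN : σ ∈ normalizer ((S : Subgroup G) : Set G)) (hσo : IsPGroup g (zpowers σ))
    (hσC : σ ∉ centralizer ((S : Subgroup G) : Set G)) :
    Nat.card ↥((S : Subgroup G) ⊓ centralizer ({σ} : Set G)) = 2 := by
  haveI := Fact.mk hg
  set F := (S : Subgroup G) ⊓ centralizer ({σ} : Set G) with hF
  letI : MulAction (zpowers σ) (S : Subgroup G) :=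
    MulAction.compHom _ ((S : Subgroup G).normalizerMonoidHom.comp
      (Subgroup.inclusion (zpowers_le.2 hσN)))
  have hmod := hσo.card_modEq_card_fixedPoints (α := (S : Subgroup G))
  have e : Nat.card (fixedPoints (zpowers σ) (S : Subgroup G)) = Nat.card F := by
    refine Nat.card_congr
      { toFun := fun s => ⟨((s : (S : Subgroup G)) : G), (s : (S : Subgroup G)).2, ?_⟩
        invFun := fun f => ⟨⟨(f : G), f.2.1⟩, fun a => ?_⟩
        left_inv := fun s => rfl
        right_inv := fun f => rfl }
    · have := congrArg Subtype.val (s.2 ⟨σ, mem_zpowers σ⟩)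
      change σ * ((s : (S : Subgroup G)) : G) * σ⁻¹ = _ at this
      exact mem_centralizer_singleton_iff.2 (mul_inv_eq_iff_eq_mul.1 this).symm
    · obtain ⟨k, hk⟩ := a.2
      apply Subtype.ext
      show (a : G) * (f : G) * (a : G)⁻¹ = f
      rw [← hk]
      show σ ^ k * (f : G) * (σ ^ k)⁻¹ = f
      rw [((show Commute σ (f : G) from (mem_centralizer_singleton_iff.1 f.2.2).symm).zpow_left k).eq,
        mul_inv_cancel_right]
  rw [e, hcard] at hmod
  obtain ⟨a, ha, hFa⟩ := (Nat.dvd_prime_pow Nat.prime_two).1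
    (hcard ▸ Subgroup.card_dvd_of_le (inf_le_left : F ≤ (S : Subgroup G)))
  rw [hFa] at hmod ⊢
  rcases Nat.lt_or_ge a n with hlt | hge
  · rcases Nat.lt_or_ge a 1 with h0 | h1
    · have : a = 0 := by omega
      subst this
      exact absurd ((Nat.modEq_iff_dvd' (Nat.one_le_two_pow)).1 hmod.symm) hgq
    · rcases Nat.lt_or_ge a 2 with h2 | h2
      · have : a = 1 := by omega
        subst this
        rfl
      · exact absurd ((Nat.modEq_iff_dvd' (Nat.pow_le_pow_right two_pos ha)).1 hmod.symm)
          (hfix a h2 hlt)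
  · exfalso
    refine hσC (Subgroup.mem_centralizer_iff.2 fun s hs => ?_)
    have heq : F = (S : Subgroup G) := Subgroup.eq_of_le_of_card_ge inf_le_left (by
      rw [hFa, hcard]; exact Nat.pow_le_pow_right two_pos hge)
    exact mem_centralizer_singleton_iff.1 (heq.ge hs).2

/-- Every 2-element is trivial or an involution. -/
theorem Elem.two_element (hE : Elem G) {H : Subgroup G} (hH : IsPGroup 2 H) {w : G} (hw : w ∈ H)
    (hw1 : w ≠ 1) : orderOf w = 2 := by
  haveI := Fact.mk Nat.prime_two
  obtain ⟨T, hT⟩ := hH.exists_le_sylow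
  exact hE.orderOf_eq (hT hw) hw1

/-- The prime `g` does not divide the automiser inside the involution-generated subgroup. -/
theorem not_dvd_autM (hC : ConjSub G) (hE : Elem G) (S : Sylow 2 G) {g n : ℕ} (hg : g.Prime)
    (hg2 : g ≠ 2) (hg4 : g - 1 ∣ 4) (hcard : Nat.card (S : Subgroup G) = 2 ^ n)
    (hfix : ∀ a, 2 ≤ a → a < n → ¬ g ∣ 2 ^ n - 2 ^ a) (hgq : ¬ g ∣ 2 ^ n - 1)
    (hgc : ¬ g ^ 2 ∣ Nat.card (S : Subgroup G).normalizerMonoidHom.range) :
    ¬ g ∣ Nat.card (autM S) := by
  intro hdvd
  haveI := Fact.mk hg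
  haveI := Fact.mk Nat.prime_two
  have hmix := hC.noMix
  set N := normalizer ((S : Subgroup G) : Set G) with hN
  set C := centralizer ((S : Subgroup G) : Set G) with hCdef
  -- an element of `g`-power order inducing an automorphism of order `g`
  obtain ⟨α, hα⟩ := exists_prime_orderOf_dvd_card' (G := autM S) g hdvd
  obtain ⟨σ₀, hσ₀M, hσ₀⟩ := α.2
  have hα' : orderOf ((S : Subgroup G).normalizerMonoidHom σ₀) = g := by
    rw [hσ₀, Subgroup.orderOf_coe, hα]
  obtain ⟨k, m, hm, hord⟩ := Nat.exists_eq_pow_mul_and_not_dvd (orderOf_pos σ₀).ne' g hg.ne_one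
  have hm0 : m ≠ 0 := by rintro rfl; exact hm (dvd_zero g)
  set σ : G := ((σ₀ ^ m : N) : G) with hσdef
  have hσo : orderOf σ = g ^ k := by
    rw [hσdef, Subgroup.orderOf_coe, orderOf_pow' _ hm0, hord, Nat.gcd_eq_right (dvd_mul_left _ _),
      Nat.mul_div_cancel _ (Nat.pos_of_ne_zero hm0)]
  have hσN : σ ∈ N := (σ₀ ^ m).2
  have hσM : σ ∈ invClosure G := by
    rw [hσdef, Subgroup.coe_pow]
    exact pow_mem hσ₀M m
  have hσC : σ ∉ C := by
    intro hc
    have h1 : (S : Subgroup G).normalizerMonoidHom σ₀ ^ m = 1 := by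
      rw [← map_pow]
      exact (normalizerMonoidHom_eq_one_iff S hσN).2 hc
    exact hm (hα' ▸ orderOf_dvd_of_pow_eq_one h1)
  have hσp : IsPGroup g (zpowers σ) := IsPGroup.of_card (n := k) (by rw [Nat.card_zpowers, hσo])
  obtain ⟨t, htS, ht, htσ⟩ := exists_fixed hE S hg (by rw [hcard]; exact hgq) hσN hσp
  have hk : k ≠ 0 := by
    rintro rfl
    rw [pow_zero, orderOf_eq_one_iff] at hσo
    exact hσC (hσo ▸ one_mem C)
  -- an element of order `g` centralised by `t`
  set x := σ ^ g ^ (k - 1) with hxdef
  have hxo : orderOf x = g := by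
    obtain ⟨j, rfl⟩ : ∃ j, k = j + 1 := ⟨k - 1, by omega⟩
    rw [hxdef, orderOf_pow' _ (pow_ne_zero _ hg.ne_zero), hσo, Nat.add_sub_cancel, pow_succ,
      Nat.gcd_eq_right (dvd_mul_right _ _), Nat.mul_div_cancel_left _ (pow_pos hg.pos _)]
  have htx : Commute t x := htσ.pow_right _
  obtain ⟨P⟩ := (inferInstance : Nonempty (Sylow g G))
  have hS4023 := S4023.result (fun H K _ _ h => hC H K h) P
  by_cases hcyc : IsCyclic (P : Subgroup G)
  · -- a normal complement in the subgroup generated by the involutions
    set M := invClosure G with hMdef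
    obtain ⟨R⟩ := (inferInstance : Nonempty (Sylow g M))
    have hRcyc : IsCyclic (R : Subgroup M) := by
      obtain ⟨Q, hQ⟩ := (R.2.map M.subtype).exists_le_sylow
      obtain ⟨a, rfl⟩ := MulAction.exists_smul_eq G P Q
      haveI := hcyc
      haveI : IsCyclic ((a • P : Sylow g G) : Subgroup G) :=
        isCyclic_of_surjective _ (P.equiv (a • P)).surjective
      exact isCyclic_of_injective
        ((Subgroup.inclusion hQ).comp
          (Subgroup.equivMapOfInjective (R : Subgroup M) M.subtype M.subtype_injective).toMonoidHom)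
        ((Subgroup.inclusion_injective hQ).comp
          (Subgroup.equivMapOfInjective (R : Subgroup M) M.subtype M.subtype_injective).injective)
    have hxM : x ∈ M := pow_mem hσM _
    have hgM : g ∣ Nat.card M := hxo ▸ Subgroup.orderOf_dvd_natCard M hxM
    have hle : normalizer ((R : Subgroup M) : Set M) ≤ centralizer ((R : Subgroup M) : Set M) := by
      have key := card_dvd_of_injective _
        (QuotientGroup.kerLift_injective (R : Subgroup M).normalizerMonoidHom)
      rw [normalizerMonoidHom_ker, ← Subgroup.index, ← Subgroup.relIndex] at key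
      obtain ⟨j, hj⟩ := R.2.exists_card_eq
      have hj0 : 0 < j := by
        by_contra hj0
        have h0 : j = 0 := by omega
        rw [h0, pow_zero, R.card_eq_multiplicity, Nat.pow_eq_one] at hj
        rcases hj with h1 | h1
        · exact hg.ne_one h1
        · exact (hg.factorization_pos_of_dvd Nat.card_pos.ne' hgM).ne' h1
      rw [hRcyc.card_mulAut, hj, Nat.totient_prime_pow hg hj0] at key
      have hcg : ((centralizer ((R : Subgroup M) : Set M)).relIndex
          (normalizer ((R : Subgroup M) : Set M))).Coprime g := by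
        haveI := hRcyc
        rw [Nat.coprime_comm, hg.coprime_iff_not_dvd]
        exact fun hd => R.not_dvd_index (hd.trans ((relIndex_dvd_of_le_left _
          (Subgroup.le_centralizer (R : Subgroup M))).trans
            (relIndex_dvd_index_of_le (le_normalizer (H := (R : Subgroup M))))))
      have hc2 : ((centralizer ((R : Subgroup M) : Set M)).relIndex
          (normalizer ((R : Subgroup M) : Set M))).Coprime 2 := by
        rw [Nat.coprime_comm, Nat.prime_two.coprime_iff_not_dvd]
        obtain ⟨T⟩ := (inferInstance : Nonempty (Sylow 2 (normalizer ((R : Subgroup M) : Set M))))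
        intro hd
        refine T.not_dvd_index (hd.trans (Subgroup.index_dvd_of_le ?_))
        intro w hw
        rw [Subgroup.mem_subgroupOf]
        by_cases hw1 : w = 1
        · rw [hw1]; exact one_mem _
        have hwo : orderOf ((w : M) : G) = 2 := by
          refine hE.two_element ((T.2.map (normalizer ((R : Subgroup M) : Set M)).subtype).map
            M.subtype) ⟨_, ⟨w, hw, rfl⟩, rfl⟩ fun e => hw1 (Subtype.ext (Subtype.ext e))
        exact (hmix.subgroup M).commute_pgroup hg hg2 (x := ⟨x, hxM⟩)
          (t := ⟨t, le_invClosure hE S htS⟩) (by rw [Subgroup.orderOf_mk, hxo])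
          (by rw [Subgroup.orderOf_mk, ht]) (Subtype.ext htx.eq)
          (by rw [← Subgroup.orderOf_coe]; exact hwo) R.2 w.2
      refine relIndex_eq_one.1 ?_
      have h1 := (Nat.Coprime.pow_right (j - 1) hcg).dvd_of_dvd_mul_left key
      exact Nat.eq_one_of_dvd_coprimes (Nat.Coprime.pow_right 2 hc2) dvd_rfl
        (h1.trans (hg4.trans (by norm_num)))
    have hcomp := MonoidHom.ker_transferSylow_isComplement' R hle
    set K := (MonoidHom.transferSylow R hle).ker
    have hK : K = ⊤ := by
      rw [eq_top_iff, ← Subgroup.map_le_map_iff_of_injective M.subtype_injective,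
        ← MonoidHom.range_eq_map, Subgroup.range_subtype]
      show closure {v : G | orderOf v = 2} ≤ K.map M.subtype
      rw [Subgroup.closure_le]
      intro v hv
      have hvM : v ∈ M := subset_closure hv
      refine ⟨⟨v, hvM⟩, ?_, rfl⟩
      have hidx : K.index = Nat.card (R : Subgroup M) := hcomp.symm.index_eq_card
      have hv2 : orderOf (QuotientGroup.mk' K ⟨v, hvM⟩) ∣ 2 := by
        have := orderOf_map_dvd (QuotientGroup.mk' K) (⟨v, hvM⟩ : M)
        rwa [Subgroup.orderOf_mk, hv] at this
      have hvR : orderOf (QuotientGroup.mk' K ⟨v, hvM⟩) ∣ Nat.card (R : Subgroup M) :=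
        hidx ▸ orderOf_dvd_natCard _
      obtain ⟨j, hj⟩ := R.2.exists_card_eq
      rw [hj] at hvR
      have h1 := Nat.eq_one_of_dvd_coprimes
        (Nat.Coprime.pow_left j ((Nat.coprime_primes hg Nat.prime_two).2 hg2)) hvR hv2
      exact (QuotientGroup.eq_one_iff _).1 (orderOf_eq_one_iff.1 h1)
    have h1 := hcomp.card_mul_card
    rw [hK, Subgroup.card_top] at h1
    have h2 : Nat.card (R : Subgroup M) = 1 :=
      Nat.eq_of_mul_eq_mul_left Nat.card_pos (h1.trans (mul_one _).symm)
    rw [R.card_eq_multiplicity, Nat.pow_eq_one] at h2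
    rcases h2 with h2 | h2
    · exact hg.ne_one h2
    · exact (hg.factorization_pos_of_dvd Nat.card_pos.ne' hgM).ne' h2
  · -- the Sylow `g`-subgroups have exponent `g`
    have hexp : ∀ y : G, IsPGroup g (zpowers y) → y ^ g = 1 := by
      intro y hy
      obtain ⟨Q, hQ⟩ := hy.exists_le_sylow
      obtain ⟨a, rfl⟩ := MulAction.exists_smul_eq G P Q
      have hy' := hQ (mem_zpowers y)
      rw [Sylow.coe_subgroup_smul] at hy'
      obtain ⟨z, hz, rfl⟩ := hy'
      show (a * z * a⁻¹) ^ g = 1
      rw [conj_pow]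
      have hz1 : z ^ g = 1 := by
        rcases hS4023 with h | h | ⟨h, -⟩ | ⟨-, -, -, h⟩
        · exact absurd h hcyc
        · exact h.2 z hz
        · exact absurd h hg2
        · have h3 := congrArg Subtype.val
            (Monoid.pow_exponent_eq_one (⟨z, hz⟩ : (P : Subgroup G)))
          rw [h] at h3
          simpa using h3
      rw [hz1, mul_one, mul_inv_cancel]
    have hσg : orderOf σ = g := ((Nat.dvd_prime hg).1 (orderOf_dvd_of_pow_eq_one (hexp σ hσp))).resolve_left
      fun e => hσC (orderOf_eq_one_iff.1 e ▸ one_mem C)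
    have hTI : ∀ {T : Sylow 2 G}, t ∈ (T : Subgroup G) → T = S := fun hT =>
      hmix.sylow_eq hE hT htS (Involution.ne_one_of_orderOf ht)
    -- no element of order `g` centralises a Sylow 2-subgroup
    have hCg : ¬ g ∣ Nat.card C := by
      intro hd
      obtain ⟨z, hz⟩ := exists_prime_orderOf_dvd_card' (G := C) g hd
      obtain ⟨a, ha⟩ := hC (zpowers (z : G)) (zpowers σ)
        (by rw [Nat.card_zpowers, Nat.card_zpowers, Subgroup.orderOf_coe, hz, hσg])
      have hle : ((a • S : Sylow 2 G) : Subgroup G) ≤ centralizer ({σ} : Set G) := by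
        rw [Sylow.coe_subgroup_smul]
        rintro _ ⟨s, hs, rfl⟩
        refine mem_centralizer_singleton_iff.2 ?_
        have hσa : σ ∈ (zpowers (z : G)).map (MulAut.conj a : G ≃* G).toMonoidHom :=
          ha ▸ mem_zpowers σ
        obtain ⟨_, ⟨i, rfl⟩, hi⟩ := hσa
        rw [← hi]
        show a * s * a⁻¹ * (a * (z : G) ^ i * a⁻¹) = a * (z : G) ^ i * a⁻¹ * (a * s * a⁻¹)
        have hc : Commute s ((z : G) ^ i) :=
          (show Commute s (z : G) from Subgroup.mem_centralizer_iff.1 z.2 s hs).zpow_right i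
        exact ((Commute.conj_iff a).2 hc).eq
      set Y := centralizer ({σ} : Set G)
      obtain ⟨T, hT⟩ := exists_sylow_of_involution (X := Y)
        (t := ⟨t, mem_centralizer_singleton_iff.2 htσ.eq⟩) (by rw [Subgroup.orderOf_mk, ht])
      have hTc : Nat.card ((T : Subgroup Y).map Y.subtype) = Nat.card (S : Subgroup G) := by
        rw [Subgroup.card_map_of_injective Y.subtype_injective, T.card_eq_multiplicity,
          ← ((a • S).subtype hle).card_eq_multiplicity, Sylow.coe_subtype,
          Nat.card_congr (Subgroup.subgroupOfEquivOfLe hle).toEquiv,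
          (a • S).card_eq_multiplicity, S.card_eq_multiplicity]
      obtain ⟨T', hT'⟩ : ∃ T' : Sylow 2 G, (T' : Subgroup G) = (T : Subgroup Y).map Y.subtype :=
        ⟨Sylow.ofCard _ (hTc.trans S.card_eq_multiplicity), rfl⟩
      have hTS : T' = S := hTI (by rw [hT']; exact ⟨_, hT, rfl⟩)
      refine hσC (Subgroup.mem_centralizer_iff.2 fun s hs => ?_)
      rw [← hTS, SetLike.mem_coe, hT'] at hs
      obtain ⟨s', -, rfl⟩ := hs
      exact mem_centralizer_singleton_iff.1 s'.2
    -- the `g`-subgroups of the normaliser have order at most `g`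
    have hNg : ∀ Q : Subgroup G, IsPGroup g Q → Q ≤ N → Nat.card Q ≤ g := by
      intro Q hQ hQN
      obtain ⟨j, hj⟩ := hQ.exists_card_eq
      have hd : g ^ j ∣ Nat.card (S : Subgroup G).normalizerMonoidHom.range * Nat.card C := by
        rw [card_range_mul S, ← hj]
        exact Subgroup.card_dvd_of_le hQN
      have hd' := (Nat.Coprime.pow_left j (hg.coprime_iff_not_dvd.2 hCg)).dvd_of_dvd_mul_right hd
      rw [hj]
      rcases Nat.lt_or_ge j 2 with h | h
      · exact le_trans (Nat.pow_le_pow_right hg.pos (by omega : j ≤ 1)) (pow_one g).le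
      · exact absurd ((pow_dvd_pow g h).trans hd') hgc
    -- the centraliser of `σ`
    set Y := centralizer ({σ} : Set G) with hY
    have htY : t ∈ Y := mem_centralizer_singleton_iff.2 htσ.eq
    obtain ⟨T, hT⟩ := exists_sylow_of_involution (X := Y) (t := ⟨t, htY⟩)
      (by rw [Subgroup.orderOf_mk, ht])
    have hT2 : Nat.card (T : Subgroup Y) = 2 := by
      obtain ⟨T', hT'⟩ := (T.2.map Y.subtype).exists_le_sylow
      have hTS : T' = S := hTI (hT' ⟨⟨t, htY⟩, hT, rfl⟩)
      have hle : (T : Subgroup Y).map Y.subtype ≤ (S : Subgroup G) ⊓ Y :=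
        le_inf (hTS ▸ hT') (Subgroup.map_subtype_le _)
      have h1 := Subgroup.card_le_of_le hle
      rw [card_fixed hE S hg hcard hfix hgq hσN hσp hσC,
        Subgroup.card_map_of_injective Y.subtype_injective] at h1
      have h2 : 2 ≤ Nat.card (T : Subgroup Y) := by
        have := Nat.le_of_dvd Nat.card_pos (Subgroup.orderOf_dvd_natCard (T : Subgroup Y) hT)
        rwa [Subgroup.orderOf_mk, ht] at this
      omega
    have hTcyc : IsCyclic (T : Subgroup Y) := isCyclic_of_prime_card (p := 2) hT2
    have hYeven : 2 ∣ Nat.card Y := hT2 ▸ Subgroup.card_subgroup_dvd_card (T : Subgroup Y)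
    have hcompT := IsCyclic.isComplement' ((Nat.minFac_eq_two_iff _).2 hYeven) hTcyc
    set K := (MonoidHom.transferSylow T
      (hTcyc.normalizer_le_centralizer ((Nat.minFac_eq_two_iff _).2 hYeven))).ker
    haveI : K.Normal := MonoidHom.normal_ker _
    have hKidx : K.index = 2 := hcompT.symm.index_eq_card.trans hT2
    have hKodd : Odd (Nat.card K) := by
      rw [← hcompT.index_eq_card]
      exact Nat.odd_iff.2 (Nat.two_dvd_ne_zero.1 T.not_dvd_index)
    -- `t` normalises a Sylow `g`-subgroup of the complement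
    set A := zpowers (⟨t, htY⟩ : Y) with hA
    obtain ⟨Q, hQ⟩ := Coprime.exists_invariant_sylow A K
      (normalizer_eq_top_iff.2 (inferInstance : K.Normal) ▸ le_top)
      (by rw [hA, Nat.card_zpowers, Subgroup.orderOf_mk, ht]; exact Nat.coprime_two_left.2 hKodd)
      (Or.inl (Group.isSolvable_of_comm fun a b => Subtype.ext (by
        obtain ⟨i, hi⟩ := a.2
        obtain ⟨j, hj⟩ := b.2
        simp only [Subgroup.coe_mul, ← hi, ← hj]
        exact (Commute.zpow_zpow (Commute.refl _) i j).eq))) g
    set Q₀ := ((Q : Subgroup K).map K.subtype).map Y.subtype with hQ₀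
    have hQ₀p : IsPGroup g Q₀ := (Q.2.map _).map _
    have hQcard : Nat.card Q₀ = g ^ (Nat.card Y).factorization g := by
      rw [hQ₀, Subgroup.card_map_of_injective Y.subtype_injective,
        Subgroup.card_map_of_injective K.subtype_injective, Q.card_eq_multiplicity,
        ← K.card_mul_index, hKidx, Nat.factorization_mul Nat.card_pos.ne' two_ne_zero]
      simp [Nat.prime_two.factorization, hg2.symm]
    have hYN : Q₀ ≤ N := by
      have hc : (⟨t, htY⟩ : Y) ∈ centralizer (((Q : Subgroup K).map K.subtype : Subgroup Y) : Set Y) :=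
        (hmix.subgroup Y).commute_pgroup hg hg2 (x := ⟨x, pow_mem (mem_centralizer_singleton_iff.2 rfl) _⟩)
          (by rw [Subgroup.orderOf_mk, hxo]) (t := ⟨t, htY⟩) (by rw [Subgroup.orderOf_mk, ht])
          (Subtype.ext htx.eq) (by rw [Subgroup.orderOf_mk, ht]) (Q.2.map _) (hQ (mem_zpowers _))
      rintro _ ⟨q, hq, rfl⟩
      refine hmix.centralizer_le_normalizer hE htS (Involution.ne_one_of_orderOf ht)
        (mem_centralizer_singleton_iff.2 ?_)
      exact congrArg Subtype.val (Subgroup.mem_centralizer_iff.1 hc q hq)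
    have hgY := hNg Q₀ hQ₀p hYN
    -- but a Sylow subgroup through `σ` meets the centraliser in more
    obtain ⟨P', hP'⟩ := hσp.exists_le_sylow
    have hP'Y : Nat.card ↥((P' : Subgroup G) ⊓ Y) ≤ g := by
      have hp : IsPGroup g (((P' : Subgroup G) ⊓ Y).subgroupOf Y) :=
        (P'.2.to_le inf_le_left).of_equiv (Subgroup.subgroupOfEquivOfLe inf_le_right).symm
      obtain ⟨U, hU⟩ := hp.exists_le_sylow
      have := Subgroup.card_le_of_le hU
      rw [Nat.card_congr (Subgroup.subgroupOfEquivOfLe (inf_le_right : _ ≤ Y)).toEquiv,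
        U.card_eq_multiplicity, ← hQcard] at this
      exact this.trans hgY
    have hσP' : zpowers σ = (P' : Subgroup G) ⊓ Y :=
      Subgroup.eq_of_le_of_card_ge (le_inf hP' (zpowers_le.2 (mem_centralizer_singleton_iff.2 rfl)))
        (by rw [Nat.card_zpowers, hσg]; exact hP'Y)
    haveI : Nontrivial (P' : Subgroup G) := (Subgroup.nontrivial_iff_ne_bot _).2 fun e =>
      hσC (by
        have := hP' (mem_zpowers σ)
        rw [e, mem_bot] at this
        rw [this]; exact one_mem C)
    haveI := P'.2.center_nontrivial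
    obtain ⟨⟨z, hz⟩, hz1⟩ := exists_ne (1 : center (P' : Subgroup G))
    have hzmem : (z : G) ∈ zpowers σ := by
      rw [hσP']
      refine ⟨z.2, mem_centralizer_singleton_iff.2 ?_⟩
      exact (congrArg Subtype.val (Subgroup.mem_center_iff.1 hz ⟨σ, hP' (mem_zpowers σ)⟩)).symm
    have hzgen : zpowers (z : G) = zpowers σ := by
      refine Subgroup.eq_of_le_of_card_ge (zpowers_le.2 hzmem) ?_
      rw [Nat.card_zpowers, Nat.card_zpowers, hσg]
      refine Nat.le_of_dvd (orderOf_pos _) ?_
      have h1 : orderOf (z : G) ∣ g := (orderOf_dvd_of_mem_zpowers hzmem).trans hσg.dvd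
      rcases (Nat.dvd_prime hg).1 h1 with h1 | h1
      · exact absurd (Subtype.ext (Subtype.ext (orderOf_eq_one_iff.1 h1))) hz1
      · rw [h1]
    refine hcyc ?_
    have hP'le : (P' : Subgroup G) ≤ zpowers σ := by
      intro w hw
      rw [hσP']
      refine ⟨hw, mem_centralizer_singleton_iff.2 ?_⟩
      obtain ⟨i, hi⟩ := hzgen.ge (mem_zpowers σ)
      rw [← hi]
      exact ((show Commute w (z : G) from
        congrArg Subtype.val (Subgroup.mem_center_iff.1 hz ⟨w, hw⟩)).zpow_right i).eq
    haveI : IsCyclic (P' : Subgroup G) :=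
      isCyclic_of_injective (Subgroup.inclusion hP'le) (Subgroup.inclusion_injective _)
    exact isCyclic_of_surjective _ (P'.equiv P).surjective

end Cfsg.Agent.SubConj42
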