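import Mathlib
import Cfsg.Agent.Lib.Involution.BaerSuzuki
import Cfsg.Agent.Lib.Involution.Dihedral
import Cfsg.Agent.Lib.Involution.StronglyEmbedded
import Cfsg.Agent.Lib.Thompson.Cores
import Cfsg.Agent.Lib.Coprime.Action

/-!
# Groups in which no element of odd prime order is both centralised and inverted by involutions
-/

set_option autoImplicit false
set_option linter.style.haveILetI false

namespace Cfsg.Agent.SubConj42

open Subgroup

variable {X : Type*} [Group X]

/-- For odd primes `r`, elements of order `r` centralised by an involution and elements of order `r`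
inverted by an involution do not both occur. -/
def NoMix (X : Type*) [Group X] : Prop :=
  ∀ r : ℕ, r.Prime → r ≠ 2 → ∀ x y t u : X, orderOf x = r → orderOf y = r → orderOf t = 2 →
    orderOf u = 2 → Commute t x → u * y * u⁻¹ = y⁻¹ → False

theorem NoMix.subgroup (h : NoMix X) (H : Subgroup X) : NoMix H := by
  intro r hr hr2 x y t u hx hy ht hu hc hi
  refine h r hr hr2 (x : X) y t u (by rw [Subgroup.orderOf_coe, hx]) (by rw [Subgroup.orderOf_coe, hy])
    (by rw [Subgroup.orderOf_coe, ht]) (by rw [Subgroup.orderOf_coe, hu])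
    (congrArg Subtype.val hc.eq) ?_
  simpa using congrArg Subtype.val hi

theorem exists_odd_prime_pow [Finite X] {d : X} (hd : Odd (orderOf d)) (hd1 : d ≠ 1) :
    ∃ r k : ℕ, r.Prime ∧ r ≠ 2 ∧ orderOf (d ^ k) = r := by
  obtain ⟨r, hr, hrd⟩ := Nat.exists_prime_and_dvd (fun h => hd1 (orderOf_eq_one_iff.1 h))
  refine ⟨r, orderOf d / r, hr, fun e => ?_, orderOf_pow_orderOf_div (orderOf_pos d).ne' hrd⟩
  subst e
  obtain ⟨c, hc⟩ := hrd
  exact (Nat.not_even_iff_odd.2 hd) ⟨c, by omega⟩

theorem inverts_pow {u d : X} (h : u * d * u⁻¹ = d⁻¹) (k : ℕ) : u * d ^ k * u⁻¹ = (d ^ k)⁻¹ := by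
  rw [← conj_pow, h, inv_pow]

/-- An element of odd order centralised by one involution and inverted by another is trivial. -/
theorem NoMix.eq_one [Finite X] (h : NoMix X) {t u d : X} (ht : orderOf t = 2) (hu : orderOf u = 2)
    (hd : Odd (orderOf d)) (hc : Commute t d) (hi : u * d * u⁻¹ = d⁻¹) : d = 1 := by
  by_contra hd1
  obtain ⟨r, k, hr, hr2, hk⟩ := exists_odd_prime_pow hd hd1
  exact h r hr hr2 _ _ t u hk hk ht hu (hc.pow_right k) (inverts_pow hi k)

/-- An involution normalising a subgroup of odd order which is centralised by an involution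
centralises it. -/
theorem NoMix.commute [Finite X] (h : NoMix X) {t u : X} (ht : orderOf t = 2) (hu : orderOf u = 2)
    {D : Subgroup X} (hD : Odd (Nat.card D)) (hnorm : ∀ d ∈ D, u * d * u⁻¹ ∈ D)
    (hcent : ∀ d ∈ D, Commute t d) {d : X} (hd : d ∈ D) : Commute u d := by
  have hw : d⁻¹ * (u * d * u⁻¹) ∈ D := mul_mem (inv_mem hd) (hnorm d hd)
  have hui : u⁻¹ = u := Involution.inv_of_orderOf hu
  have hi : u * (d⁻¹ * (u * d * u⁻¹)) * u⁻¹ = (d⁻¹ * (u * d * u⁻¹))⁻¹ := by
    have huu := Involution.mul_self_of_orderOf hu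
    rw [hui, mul_inv_rev, mul_inv_rev, mul_inv_rev, hui, inv_inv]
    calc u * (d⁻¹ * (u * d * u)) * u = u * d⁻¹ * u * d * (u * u) := by group
      _ = u * (d⁻¹ * u) * d := by rw [huu]; group
  have hodd : Odd (orderOf (d⁻¹ * (u * d * u⁻¹))) :=
    Odd.of_dvd_nat hD (Subgroup.orderOf_dvd_natCard D hw)
  have h1 := h.eq_one ht hu hodd (hcent _ hw) hi
  show u * d = d * u
  exact (mul_inv_eq_iff_eq_mul.1 (inv_mul_eq_one.1 h1).symm)

/-- The involutions centralising an involution lie in the normal 2-subgroup of its centraliser. -/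
theorem NoMix.mem_pCore [Finite X] (h : NoMix X) {t v : X} (ht : orderOf t = 2)
    (hv : orderOf v = 2) (hvC : v ∈ centralizer ({t} : Set X)) :
    (⟨v, hvC⟩ : centralizer ({t} : Set X)) ∈ Cfsg.pCore 2 (centralizer ({t} : Set X)) := by
  haveI := Fact.mk Nat.prime_two
  set C := centralizer ({t} : Set X)
  set v' : C := ⟨v, hvC⟩ with hv'
  by_cases hall : ∀ c : C, IsPGroup 2 (closure ({v', c * v' * c⁻¹} : Set C))
  · obtain ⟨N, hN, hNp, hvN⟩ := Involution.baerSuzuki v' hall
    exact Thompson.le_pCore hN hNp hvN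
  exfalso
  push Not at hall
  obtain ⟨c, hc⟩ := hall
  set w := c * v' * c⁻¹ with hw
  have hvo : orderOf v' = 2 := by rw [← Subgroup.orderOf_coe, hv']; exact hv
  have hwo : orderOf w = 2 := by rw [hw, Involution.orderOf_conj, hvo]
  apply hc
  obtain ⟨e⟩ := Involution.closure_pair_equiv_dihedral (x := v') (y := w) hvo hwo
  obtain ⟨a, m, hm, hn⟩ := Nat.exists_eq_two_pow_mul_odd (orderOf_pos (v' * w)).ne'
  have hm1 : m = 1 := by
    have hodd : Odd (orderOf ((v' * w) ^ 2 ^ a)) := by
      rwa [orderOf_pow' _ (by positivity), hn, Nat.gcd_eq_right (dvd_mul_right _ _),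
        Nat.mul_div_cancel_left _ (by positivity)]
    have hi : (v' : X) * (((v' * w) ^ 2 ^ a : C) : X) * (v' : X)⁻¹ = (((v' * w) ^ 2 ^ a : C) : X)⁻¹ := by
      have := inverts_pow (Involution.inverts_mul (x := v') (y := w)
        (Involution.mul_self_of_orderOf hvo) (Involution.mul_self_of_orderOf hwo)) (2 ^ a)
      simpa using congrArg Subtype.val this
    have h1 := h.eq_one ht (u := (v' : X)) hv (by rw [Subgroup.orderOf_coe]; exact hodd)
      (mem_centralizer_singleton_iff.1 ((v' * w) ^ 2 ^ a).2).symm hi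
    have h2 : (v' * w) ^ 2 ^ a = 1 := Subtype.ext h1
    have := orderOf_dvd_of_pow_eq_one h2
    rw [hn] at this
    exact Nat.eq_one_of_mul_eq_one_right (n := 1) (by
      have h3 := Nat.le_of_dvd (by positivity) this
      have hpos : 0 < 2 ^ a := by positivity
      have : 1 ≤ m := Nat.one_le_iff_ne_zero.2 (by rintro rfl; simp at hm)
      nlinarith)
  refine IsPGroup.of_card (n := a + 1) ?_
  rw [Nat.card_congr e.toEquiv, DihedralGroup.nat_card, hn, hm1, mul_one, pow_succ, mul_comm]

end Cfsg.Agent.SubConj42
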