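import Cfsg.Agent.FGS76.NormalizerAffine
import Cfsg.Agent.S2602

/-!
# Orders of the semiaffine groups and of the automorphism group of a linear group
-/

set_option autoImplicit false
set_option linter.style.haveILetI false
set_option linter.unusedSectionVars false

namespace Cfsg.Agent.SubConj42

open Cfsg

variable {p n : ℕ} [Fact p.Prime]

theorem card_semiaffine (hn : n ≠ 0) :
    Nat.card (semiaffineGroup (GaloisField p n)) = (p ^ n - 1) * p ^ n * n := by
  classical
  haveI := Fintype.ofFinite (GaloisField p n)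
  set R := GaloisField p n
  haveI : Finite (R ≃+* R) :=
    Finite.of_injective (fun f : R ≃+* R => (f : R → R)) DFunLike.coe_injective
  have hR : Nat.card R = p ^ n := GaloisField.card p n hn
  let f : Rˣ × R × (R ≃+* R) → semiaffineGroup R := fun z =>
    ⟨(z.2.2.toEquiv.trans (Equiv.mulLeft₀ (z.1 : R) z.1.ne_zero)).trans (Equiv.addRight z.2.1),
      z.1, z.2.1, z.2.2, fun x => rfl⟩
  have hf : Function.Bijective f := by
    refine ⟨fun z w hzw => ?_, fun ⟨s, a, b, φ, hs⟩ =>
      ⟨(a, b, φ), Subtype.ext (Equiv.ext fun x => (hs x).symm)⟩⟩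
    obtain ⟨a, b, φ⟩ := z
    obtain ⟨a', b', φ'⟩ := w
    have h : ∀ x : R, (a : R) * φ x + b = (a' : R) * φ' x + b' := fun x =>
      Equiv.congr_fun (congrArg Subtype.val hzw) x
    have hb : b = b' := by simpa using h 0
    have ha : a = a' := by
      apply Units.ext
      simpa [hb] using h 1
    have hφ : φ = φ' := RingEquiv.ext fun x => by simpa [hb, ha] using h x
    rw [ha, hb, hφ]
  rw [← Nat.card_congr (Equiv.ofBijective f hf), Nat.card_prod, Nat.card_prod, Nat.card_units, hR,
    CG26.card_fieldAut p n (F := R) (by rw [← Nat.card_eq_fintype_card, hR]), ← mul_assoc]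

theorem card_affine (hn : n ≠ 0) :
    Nat.card (affineGroup (GaloisField p n)) = (p ^ n - 1) * p ^ n := by
  classical
  set R := GaloisField p n
  have hR : Nat.card R = p ^ n := GaloisField.card p n hn
  let f : Rˣ × R → affineGroup R := fun z =>
    ⟨(Equiv.mulLeft₀ (z.1 : R) z.1.ne_zero).trans (Equiv.addRight z.2), z.1, z.2, fun x => rfl⟩
  have hf : Function.Bijective f := by
    refine ⟨fun z w hzw => ?_, fun ⟨s, a, b, hs⟩ =>
      ⟨(a, b), Subtype.ext (Equiv.ext fun x => (hs x).symm)⟩⟩
    obtain ⟨a, b⟩ := z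
    obtain ⟨a', b'⟩ := w
    have h : ∀ x : R, (a : R) * x + b = (a' : R) * x + b' := fun x =>
      Equiv.congr_fun (congrArg Subtype.val hzw) x
    have hb : b = b' := by simpa using h 0
    have ha : a = a' := by
      apply Units.ext
      simpa [hb] using h 1
    rw [ha, hb]
  rw [← Nat.card_congr (Equiv.ofBijective f hf), Nat.card_prod, Nat.card_units, hR]

/-- The automorphism group of a linear group over a field with `2 ^ f` elements. -/
theorem card_mulAut_psl {F : Type*} [Field F] [Fintype F] {f : ℕ} (hf : 2 ≤ f)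
    (hF : Fintype.card F = 2 ^ f) :
    Nat.card (MulAut (Matrix.ProjectiveSpecialLinearGroup (Fin 2) F)) =
      f * Nat.card (MulAut.conj :
        Matrix.ProjectiveSpecialLinearGroup (Fin 2) F →* _).range := by
  haveI := Fact.mk Nat.prime_two
  have : NeZero f := ⟨by omega⟩
  obtain ⟨φ, hφ, -, hk⟩ := S2602.result (F := F) (p := 2) (f := f) (by omega) hF
    (le_trans (by norm_num) (Nat.pow_le_pow_right two_pos hf))
  have hodd : Nat.gcd 2 (2 ^ f - 1) = 1 := by
    refine (Nat.prime_two.coprime_iff_not_dvd.2 fun h2 => ?_)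
    obtain ⟨k, hk⟩ := h2
    have h1 : 2 ∣ 2 ^ f := dvd_pow_self 2 (by omega)
    have := Nat.one_le_two_pow (n := f)
    omega
  rw [hodd] at hk
  have hcard : Nat.card (Out (Matrix.ProjectiveSpecialLinearGroup (Fin 2) F)) = f := by
    rw [Subgroup.card_eq_card_quotient_mul_card_subgroup φ.ker, hk, mul_one,
      Nat.card_congr (QuotientGroup.quotientKerEquivOfSurjective φ hφ).toEquiv,
      Nat.card_congr Multiplicative.toAdd, Nat.card_zmod]
  rw [Subgroup.card_eq_card_quotient_mul_card_subgroup
    (Inn (Matrix.ProjectiveSpecialLinearGroup (Fin 2) F))]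
  rw [hcard]

end Cfsg.Agent.SubConj42
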