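import Cfsg.Agent.SubConj42.Sub
import Cfsg.Agent.PF14.Compose

/-!
# In a group generated by involutions the two-point stabilisers lie in the centre
-/

set_option autoImplicit false
set_option linter.style.haveILetI false
set_option linter.unusedSectionVars false

namespace Cfsg.Agent.SubConj42

open Subgroup MulAction
open scoped Pointwise commutatorElement

universe u

variable {X : Type u} [Group X] [Finite X]

omit [Finite X] in
/-- The squares lie in the derived group of a group generated by involutions. -/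
theorem sq_mem_commutator (hE : closure {v : X | orderOf v = 2} = ⊤) (g : X) :
    g ^ 2 ∈ commutator X := by
  have key : ∀ x : X, Abelianization.of x * Abelianization.of x = 1 := by
    intro x
    have hx : x ∈ closure {v : X | orderOf v = 2} := hE ▸ mem_top x
    induction hx using closure_induction with
    | mem v hv => rw [← map_mul, Involution.mul_self_of_orderOf hv, map_one]
    | one => rw [map_one, one_mul]
    | mul a b _ _ iha ihb => rw [map_mul, mul_mul_mul_comm, iha, ihb, one_mul]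
    | inv a _ iha => rw [map_inv, ← mul_inv, iha, inv_one]
  rw [← QuotientGroup.eq_one_iff, pow_two]
  exact key g

namespace Hyp

variable {r : ℕ} (h : Hyp X r)
include h

theorem le_centralizer_of_mem {P : Sylow 2 X} {x : X}
    (hx : x ∈ centralizer ((P : Subgroup X) : Set X)) :
    (P : Subgroup X) ≤ centralizer ({x} : Set X) := fun s hs =>
  mem_centralizer_singleton_iff.2 (Subgroup.mem_centralizer_iff.1 hx s hs)

/-- What the induction hypothesis gives for the centraliser of a non-central element of `dd`. -/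
theorem concl_centralizer {P R : Sylow 2 X} (hne : R ≠ P)
    (IH : ∀ Y : Subgroup X, Y ≠ ⊤ → Hyp Y r → Concl Y r) {x : X} (hx : x ∈ dd P R)
    (hxZ : x ∉ center X) : Concl (centralizer ({x} : Set X)) r := by
  refine IH _ (fun e => hxZ (Subgroup.mem_center_iff.2 fun g => ?_))
    (h.subgroup (h.le_centralizer_of_mem hx.1) fun hle => hne
      (sylow_eq_of_le_normalizer ((h.le_centralizer_of_mem hx.2).trans hle)).symm)
  exact mem_centralizer_singleton_iff.1 (e ▸ mem_top g)

/-- Elements of `l`-power order fixing two Sylow subgroups lie in their `dd`, for `l ≠ r`. -/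
theorem mem_dd_of_coprime (P : Sylow 2 X) {R : Sylow 2 X} (hne : R ≠ P) {z : X}
    (hz : z ∈ normalizer ((P : Subgroup X) : Set X))
    (hz' : z ∈ normalizer ((R : Subgroup X) : Set X)) (hco : (orderOf z).Coprime r) :
    z ∈ dd P R := by
  obtain ⟨u, y, hu, huR, huN, hy, hi, hyr⟩ := h.exists_swap P hne
  obtain ⟨k, hk⟩ := exists_pow_eq_self_of_coprime hco.symm
  rw [← hk]
  exact pow_mem (show z ^ r ∈ dd P R from ⟨h.auto P z hz, h.auto R z hz'⟩) k

/-- Fusion in a non-central `dd` is controlled by it. -/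
theorem fusion_dd {P R : Sylow 2 X} (hne : R ≠ P)
    (IH : ∀ Y : Subgroup X, Y ≠ ⊤ → Hyp Y r → Concl Y r) {x g : X} (hx : x ∈ dd P R)
    (hxZ : x ∉ center X) (hgx : g * x * g⁻¹ ∈ dd P R) :
    ∃ d ∈ dd P R, g * x * g⁻¹ = d * x * d⁻¹ := by
  set x' := g * x * g⁻¹ with hx'
  have hx'Z : x' ∉ center X := fun hc => hxZ (by
    have h1 := (inferInstance : (center X).Normal).conj_mem _ hc g⁻¹
    rwa [hx', inv_inv, show g⁻¹ * (g * x * g⁻¹) * g = x by group] at h1)
  have hcY := h.concl_centralizer hne IH hgx hx'Z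
  set Y := centralizer ({x'} : Set X) with hYdef
  have hPY : (P : Subgroup X) ≤ Y := h.le_centralizer_of_mem hgx.1
  have hRY : (R : Subgroup X) ≤ Y := h.le_centralizer_of_mem hgx.2
  have himg : ∀ T : Sylow 2 X, (T : Subgroup X) ≤ centralizer ({x} : Set X) →
      ((g • T : Sylow 2 X) : Subgroup X) ≤ Y := by
    intro T hT
    rw [Sylow.coe_subgroup_smul]
    rintro _ ⟨a, ha, rfl⟩
    exact mem_centralizer_singleton_iff.2
      ((Commute.conj_iff g).2 (mem_centralizer_singleton_iff.1 (hT ha))).eq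
  obtain ⟨c, hc, hcP⟩ : ∃ c ∈ Y, c • g • P = P := by
    haveI := Fact.mk Nat.prime_two
    obtain ⟨T, hT⟩ : ∃ T : Sylow 2 X, T = g • P := ⟨_, rfl⟩
    have hTY : (T : Subgroup X) ≤ Y := hT ▸ himg P (h.le_centralizer_of_mem hx.1)
    obtain ⟨c, hc⟩ := MulAction.exists_smul_eq Y (T.subtype hTY) (P.subtype hPY)
    refine ⟨(c : X), c.2, ?_⟩
    rw [← hT]
    have h1 : (T.subtype hTY : Sylow 2 Y) = T.subtype hTY := rfl
    rw [Sylow.smul_subtype] at hc
    refine Sylow.ext ?_
    have h2 := congrArg (fun S : Sylow 2 Y => (S : Subgroup Y).map Y.subtype) hc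
    rw [Sylow.coe_subtype, Sylow.coe_subtype, Subgroup.map_subgroupOf_eq_of_le hPY,
      Subgroup.map_subgroupOf_eq_of_le (by
        rw [Subgroup.smul_def, Sylow.coe_subgroup_smul]
        rintro _ ⟨a, ha, rfl⟩
        exact mul_mem (mul_mem c.2 (hTY ha)) (inv_mem c.2))] at h2
    exact h2
  have hcgR : ((c • g • R : Sylow 2 X) : Subgroup X) ≤ Y := by
    rw [Sylow.coe_subgroup_smul]
    rintro _ ⟨a, ha, rfl⟩
    exact mul_mem (mul_mem hc (himg R (h.le_centralizer_of_mem hx.2) ha)) (inv_mem hc)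
  rcases h.le_subgroup_cases hPY hRY hne hcY.1 hcgR with he | ⟨s, hs, he⟩
  · exact absurd (smul_left_cancel g (smul_left_cancel c (he.trans hcP.symm))) hne
  set g' := s⁻¹ * c * g with hg'
  have hg'P : g' • P = P := by
    rw [hg', mul_smul, mul_smul, hcP, Sylow.smul_eq_iff_mem_normalizer.2 (inv_mem (le_normalizer hs))]
  have hg'R : g' • R = R := by rw [hg', mul_smul, mul_smul, he, inv_smul_smul]
  have hg'x : g' * x * g'⁻¹ = x' := by
    have hsc : Commute (s⁻¹ * c) x' :=
      mem_centralizer_singleton_iff.1 (mul_mem (inv_mem (hPY hs)) hc)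
    calc g' * x * g'⁻¹ = (s⁻¹ * c) * x' * (s⁻¹ * c)⁻¹ := by rw [hg', hx']; group
      _ = x' := by rw [hsc.eq, mul_inv_cancel_right]
  obtain ⟨u, y, hu, huR, huN, hy, hi, hyr⟩ := h.exists_swap P hne
  have hy1 : y ≠ 1 := fun e => by rw [e, orderOf_one] at hyr; have := h.three; omega
  obtain ⟨i, hd⟩ := h.mem_inf_normalizer P hu huN hy hi hy1
    (Sylow.smul_eq_iff_mem_normalizer.1 hg'P) (by rw [huR, hg'R])
  rw [huR] at hd
  refine ⟨(y ^ i)⁻¹ * g', hd, ?_⟩
  have hcy : Commute (y ^ i) x' := by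
    rw [← huR] at hgx
    exact (h.commute_dd_of_inverted P hu huN hy hi hgx).pow_left i
  calc x' = (y ^ i)⁻¹ * x' * y ^ i := by
        rw [hcy.inv_left.eq, inv_mul_cancel_right]
    _ = _ := by rw [← hg'x]; group

/-- A Sylow subgroup of a non-central `dd` at a prime where it is not central is Sylow in `X`. -/
theorem not_dvd_index_dd {P R : Sylow 2 X} (hne : R ≠ P)
    (IH : ∀ Y : Subgroup X, Y ≠ ⊤ → Hyp Y r → Concl Y r) {l : ℕ} [Fact l.Prime]
    (L : Sylow l (dd P R)) {x : X} (hx : x ∈ (L : Subgroup (dd P R)).map (dd P R).subtype)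
    (hxZ : x ∉ center X) (hl2 : l ≠ 2) (hlr : l ≠ r) :
    ∃ L' : Sylow l X, (L' : Subgroup X) = (L : Subgroup (dd P R)).map (dd P R).subtype := by
  set L₀ := (L : Subgroup (dd P R)).map (dd P R).subtype with hL₀
  have hLD : L₀ ≤ dd P R := Subgroup.map_subtype_le _
  have hlp : IsPGroup l L₀ := L.2.map _
  obtain ⟨L', hL'⟩ := hlp.exists_le_sylow
  refine ⟨L', ?_⟩
  haveI : Group.IsNilpotent (L' : Subgroup X) := L'.2.isNilpotent
  have hxD : x ∈ dd P R := hLD hx
  have hl : ¬ l ∣ r + 2 := by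
    intro hd
    obtain ⟨u, w, hu, hw, hi⟩ := (h.concl_centralizer hne IH hxD hxZ).2 l Fact.out hd
    have hxo : ∃ k, orderOf (x ^ k) = l := by
      obtain ⟨a, ha⟩ := (IsPGroup.iff_orderOf.1 hlp) ⟨x, hx⟩
      rw [Subgroup.orderOf_mk] at ha
      refine ⟨l ^ a / l, ?_⟩
      rcases a with _ | a
      · rw [pow_zero, orderOf_eq_one_iff] at ha
        exact absurd (ha ▸ one_mem _) hxZ
      · rw [← ha, orderOf_pow_orderOf_div (orderOf_pos x).ne' (by rw [ha, pow_succ]; exact dvd_mul_left _ _)]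
    obtain ⟨k, hk⟩ := hxo
    obtain ⟨t, ht, ht1⟩ := h.exists_ne_one P
    exact h.mix l Fact.out hl2 (x ^ k) (w : X) t (u : X) hk
      (by rw [Subgroup.orderOf_coe, hw]) (h.elem.orderOf_eq ht ht1)
      (by rw [Subgroup.orderOf_coe, hu]) ((show Commute t x from Subgroup.mem_centralizer_iff.1 hxD.1 t ht).pow_right k)
      (congrArg Subtype.val hi)
  -- the normaliser of `L₀` in `L'` is `L₀`
  by_contra hne'
  have hlt : L₀.subgroupOf (L' : Subgroup X) < ⊤ := lt_top_iff_ne_top.2 fun e =>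
    hne' (le_antisymm (Subgroup.subgroupOf_eq_top.1 e) hL')
  have hgrow := Group.normalizerCondition_of_isNilpotent (G := (L' : Subgroup X)) _ hlt
  set Q := (normalizer ((L₀.subgroupOf (L' : Subgroup X) : Subgroup (L' : Subgroup X)) : Set (L' : Subgroup X))).map
    (L' : Subgroup X).subtype with hQ
  have hQp : IsPGroup l Q := (L'.2.to_subgroup _).map _
  have hQn : ∀ q ∈ Q, q * x * q⁻¹ ∈ L₀ := by
    rintro _ ⟨q, hq, rfl⟩
    have h1 := (Subgroup.mem_normalizer_iff.1 hq ⟨x, hL' hx⟩).1 hx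
    exact h1
  have hLQ : L₀ ≤ Q := fun z hz => ⟨⟨z, hL' hz⟩, Subgroup.le_normalizer hz, rfl⟩
  -- `Q` permutes the Sylow 2-subgroups centralised by `L₀`
  let Λ : Set (Sylow 2 X) := {T | (T : Subgroup X) ≤ centralizer (L₀ : Set X)}
  have hΛ : ∀ T : Sylow 2 X, T ∈ Λ → T = P ∨ ∃ s ∈ (P : Subgroup X), T = s • R := by
    intro T hT
    exact h.le_subgroup_cases (h.le_centralizer_of_mem hxD.1) (h.le_centralizer_of_mem hxD.2) hne
      (h.concl_centralizer hne IH hxD hxZ).1
      (hT.trans (centralizer_le (Set.singleton_subset_iff.2 hx)))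
  have hPΛ : P ∈ Λ := fun s hs => Subgroup.mem_centralizer_iff.2 fun z hz =>
    (Subgroup.mem_centralizer_iff.1 (hLD hz).1 s hs).symm
  have hRΛ : R ∈ Λ := fun s hs => Subgroup.mem_centralizer_iff.2 fun z hz =>
    (Subgroup.mem_centralizer_iff.1 (hLD hz).2 s hs).symm
  have hsΛ : ∀ s ∈ (P : Subgroup X), s • R ∈ Λ := by
    intro s hs a ha
    rw [Sylow.coe_subgroup_smul] at ha
    obtain ⟨b, hb, rfl⟩ := ha
    exact mul_mem (mul_mem (hPΛ hs) (hRΛ hb)) (inv_mem (hPΛ hs))
  classical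
  have hcard : Nat.card Λ = r + 2 := by
    let f : Option (P : Subgroup X) → Λ := fun o => match o with
      | none => ⟨P, hPΛ⟩
      | some s => ⟨(s : X) • R, hsΛ s s.2⟩
    have hsurj : Function.Surjective f := by
      rintro ⟨T, hT⟩
      rcases hΛ T hT with rfl | ⟨s, hs, rfl⟩
      · exact ⟨none, rfl⟩
      · exact ⟨some ⟨s, hs⟩, rfl⟩
    have h1 := Nat.card_le_card_of_surjective f hsurj
    rw [Finite.card_option, h.card P] at h1
    have hY := h.le_centralizer_of_mem hxD.1
    have h2 : Nat.card (Sylow 2 (centralizer ({x} : Set X))) ≤ Nat.card Λ := by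
      rw [h.card_sylow_le_subgroup hY]
      refine Nat.card_le_card_of_injective (fun T => ⟨T.1, ?_⟩) fun a b hab => Subtype.ext (congrArg (fun z : Λ => z.1) hab)
      rcases h.le_subgroup_cases hY (h.le_centralizer_of_mem hxD.2) hne
          (h.concl_centralizer hne IH hxD hxZ).1 T.2 with he | ⟨s, hs, he⟩
      · exact he ▸ hPΛ
      · exact he ▸ hsΛ s hs
    rw [(h.concl_centralizer hne IH hxD hxZ).1] at h2
    omega
  letI act : MulAction Q Λ :=
    { smul := fun q T => ⟨(q : X) • T.1, by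
        intro a ha
        rw [Sylow.coe_subgroup_smul] at ha
        obtain ⟨b, hb, rfl⟩ := ha
        rw [Subgroup.mem_centralizer_iff]
        intro z hz
        obtain ⟨q', hq', hqq⟩ := q.2
        have hz' : (q : X)⁻¹ * z * q ∈ L₀ := by
          have h1 := (Subgroup.mem_normalizer_iff.1 (inv_mem hq') ⟨z, hL' hz⟩).1 hz
          rw [Subgroup.mem_subgroupOf] at h1
          simpa [← hqq] using h1
        have h2 := Subgroup.mem_centralizer_iff.1 (T.2 hb) _ hz'
        show z * ((q : X) * b * (q : X)⁻¹) = (q : X) * b * (q : X)⁻¹ * z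
        calc z * ((q : X) * b * (q : X)⁻¹) = q * ((q : X)⁻¹ * z * q * b) * (q : X)⁻¹ := by group
          _ = q * (b * ((q : X)⁻¹ * z * q)) * (q : X)⁻¹ := by rw [h2]
          _ = _ := by group⟩
      one_smul := fun T => Subtype.ext (one_smul X T.1)
      mul_smul := fun a b T => Subtype.ext (mul_smul (a : X) b T.1) }
  have hmod := hQp.card_modEq_card_fixedPoints (α := Λ)
  rw [hcard] at hmod
  obtain ⟨T₁, hT₁⟩ : (fixedPoints Q Λ).Nonempty := by
    rw [Set.nonempty_iff_ne_empty]
    intro he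
    rw [he] at hmod
    simp only [Nat.card_of_isEmpty] at hmod
    exact hl (Nat.modEq_zero_iff_dvd.1 hmod)
  obtain ⟨T₂, hT₂, hne₂⟩ : ∃ T₂ ∈ fixedPoints Q Λ, T₂ ≠ T₁ := by
    by_contra hno
    push Not at hno
    have he : fixedPoints Q Λ = {T₁} := Set.eq_singleton_iff_unique_mem.2 ⟨hT₁, hno⟩
    rw [he, Nat.card_unique (α := ({T₁} : Set Λ))] at hmod
    have hd : l ∣ r + 1 := by
      have := (Nat.modEq_iff_dvd' (by omega)).1 hmod.symm
      simpa using this
    obtain ⟨m, hm⟩ := (IsPGroup.iff_card (p := 2)).1 P.2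
    rw [h.card P] at hm
    exact hl2 ((Nat.prime_dvd_prime_iff_eq Fact.out Nat.prime_two).1
      ((Fact.out : l.Prime).dvd_of_dvd_pow (hm ▸ hd)))
  -- move the two fixed points to `P` and `R`
  have hmove : ∀ A B : Sylow 2 X, A ∈ Λ → B ∈ Λ → B ≠ A →
      ∃ c ∈ centralizer (L₀ : Set X), c • A = P ∧ c • B = R := by
    intro A B hA hB hBA
    obtain ⟨c, hc, hcA⟩ : ∃ c ∈ centralizer (L₀ : Set X), c • A = P := by
      haveI := Fact.mk Nat.prime_two
      obtain ⟨c, hc⟩ := MulAction.exists_smul_eq (centralizer (L₀ : Set X)) (A.subtype hA)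
        (P.subtype hPΛ)
      refine ⟨(c : X), c.2, Sylow.ext ?_⟩
      rw [Sylow.smul_subtype] at hc
      have h2 := congrArg (fun S : Sylow 2 (centralizer (L₀ : Set X)) =>
        (S : Subgroup (centralizer (L₀ : Set X))).map (centralizer (L₀ : Set X)).subtype) hc
      rw [Sylow.coe_subtype, Sylow.coe_subtype, Subgroup.map_subgroupOf_eq_of_le hPΛ,
        Subgroup.map_subgroupOf_eq_of_le (by
          rw [Subgroup.smul_def, Sylow.coe_subgroup_smul]
          rintro _ ⟨a, ha, rfl⟩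
          exact mul_mem (mul_mem c.2 (hA ha)) (inv_mem c.2))] at h2
      exact h2
    have hcB : c • B ∈ Λ := by
      intro a ha
      rw [Sylow.coe_subgroup_smul] at ha
      obtain ⟨b, hb, rfl⟩ := ha
      exact mul_mem (mul_mem hc (hB hb)) (inv_mem hc)
    rcases hΛ _ hcB with he | ⟨s, hs, he⟩
    · exact absurd (smul_left_cancel c (he.trans hcA.symm)) hBA
    · refine ⟨s⁻¹ * c, mul_mem (inv_mem (hPΛ hs)) hc, ?_, ?_⟩
      · rw [mul_smul, hcA, Sylow.smul_eq_iff_mem_normalizer.2 (inv_mem (le_normalizer hs))]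
      · rw [mul_smul, he, inv_smul_smul]
  obtain ⟨c, hc, hcP, hcR⟩ := hmove T₁.1 T₂.1 T₁.2 T₂.2 fun e => hne₂ (Subtype.ext e)
  have hQD : Q.map (MulAut.conj c : X ≃* X).toMonoidHom ≤ dd P R := by
    rintro _ ⟨q, hq, rfl⟩
    have hfix : ∀ T ∈ fixedPoints Q Λ, q • T.1 = T.1 := fun T hT =>
      congrArg Subtype.val (hT ⟨q, hq⟩)
    refine h.mem_dd_of_coprime P hne ?_ ?_ ?_
    · refine Sylow.smul_eq_iff_mem_normalizer.1 ?_
      show (c * q * c⁻¹) • P = P
      rw [← hcP, mul_smul, mul_smul, inv_smul_smul, hfix _ hT₁]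
    · refine Sylow.smul_eq_iff_mem_normalizer.1 ?_
      show (c * q * c⁻¹) • R = R
      rw [← hcR, mul_smul, mul_smul, inv_smul_smul, hfix _ hT₂]
    · obtain ⟨a, ha⟩ := (IsPGroup.iff_orderOf.1 hQp) ⟨q, hq⟩
      rw [Subgroup.orderOf_mk] at ha
      show (orderOf (c * q * c⁻¹)).Coprime r
      rw [Involution.orderOf_conj, ha]
      exact Nat.Coprime.pow_left _ ((Nat.coprime_primes Fact.out h.prime).2 hlr)
  have hQc : Nat.card Q ≤ Nat.card L₀ := by
    have e1 : Nat.card (Q.map (MulAut.conj c : X ≃* X).toMonoidHom) = Nat.card Q :=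
      Subgroup.card_map_of_injective (MulAut.conj c : X ≃* X).injective
    have hp : IsPGroup l ((Q.map (MulAut.conj c : X ≃* X).toMonoidHom).subgroupOf (dd P R)) :=
      (hQp.map _).of_equiv (Subgroup.subgroupOfEquivOfLe hQD).symm
    obtain ⟨S, hS⟩ := hp.exists_le_sylow
    rw [← e1, ← Nat.card_congr (Subgroup.subgroupOfEquivOfLe hQD).toEquiv, hL₀,
      Subgroup.card_map_of_injective (dd P R).subtype_injective, L.card_eq_multiplicity,
      ← S.card_eq_multiplicity]
    exact Subgroup.card_le_of_le hS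
  have heq : L₀ = Q := Subgroup.eq_of_le_of_card_ge hLQ hQc
  obtain ⟨z, hz, hzL⟩ := SetLike.exists_of_lt hgrow
  have hzQ : (z : X) ∈ L₀ := heq ▸ ⟨z, hz, rfl⟩
  exact hzL hzQ

/-- The two-point stabilisers are central. -/
theorem dd_le_center (hE : closure {v : X | orderOf v = 2} = ⊤)
    (IH : ∀ Y : Subgroup X, Y ≠ ⊤ → Hyp Y r → Concl Y r) {P R : Sylow 2 X} (hne : R ≠ P) :
    dd P R ≤ center X := by
  set D := dd P R with hD
  set W : Subgroup D := commutator D ⊔ (center X).subgroupOf D with hW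
  have hodd := h.odd_card_dd (P := P) (R := R) hne.symm
  -- every Sylow subgroup of `D` lies in `W`
  have hall : ∀ (l : ℕ) [Fact l.Prime] (L : Sylow l D), (L : Subgroup D) ≤ W := by
    intro l _ L
    by_cases hcen : ∀ z ∈ (L : Subgroup D), (z : X) ∈ center X
    · exact fun z hz => Subgroup.mem_sup_right (hcen z hz)
    push Not at hcen
    obtain ⟨x, hxL, hxZ⟩ := hcen
    have hldvd : l ∣ Nat.card D := by
      obtain ⟨a, ha⟩ := (IsPGroup.iff_card (p := l)).1 L.2
      rcases a with _ | a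
      · rw [pow_zero, Subgroup.card_eq_one] at ha
        rw [ha, mem_bot] at hxL
        exact absurd (hxL ▸ one_mem _) hxZ
      · exact (dvd_pow_self l (Nat.succ_ne_zero a)).trans (ha ▸ Subgroup.card_subgroup_dvd_card _)
    have hl2 : l ≠ 2 := fun e => by
      subst e
      exact (Nat.not_even_iff_odd.2 hodd) (even_iff_two_dvd.2 hldvd)
    have hlr : l ≠ r := fun e => (h.prime.coprime_iff_not_dvd.1 (h.coprime_centralizer P))
      (e ▸ hldvd.trans (Subgroup.card_dvd_of_le inf_le_left))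
    obtain ⟨L', hL'⟩ := h.not_dvd_index_dd hne IH L (x := (x : X)) ⟨x, hxL, rfl⟩ hxZ hl2 hlr
    have hfoc : Subgroup.focalSubgroup (L' : Subgroup X) ≤ W.map D.subtype := by
      rw [Subgroup.focalSubgroup_def, Subgroup.closure_le]
      rintro _ ⟨hgH, a, ha, g, rfl⟩
      have haD : a ∈ D := Subgroup.map_subtype_le _ (hL' ▸ ha)
      have hbD : ⁅a, g⁆ ∈ D := Subgroup.map_subtype_le _ (hL' ▸ hgH)
      have hgD : g * a⁻¹ * g⁻¹ ∈ D := by
        rw [show g * a⁻¹ * g⁻¹ = a⁻¹ * ⁅a, g⁆ by rw [commutatorElement_def]; group]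
        exact mul_mem (inv_mem haD) hbD
      by_cases haZ : a⁻¹ ∈ center X
      · refine ⟨1, one_mem _, ?_⟩
        rw [commutatorElement_def, show a * g * a⁻¹ * g⁻¹ = a * (g * a⁻¹) * g⁻¹ by group,
          Subgroup.mem_center_iff.1 haZ g]
        simp
      obtain ⟨d, hd, he⟩ := h.fusion_dd hne IH (inv_mem haD) haZ hgD
      refine ⟨⁅(⟨a, haD⟩ : D), ⟨d, hd⟩⁆, Subgroup.mem_sup_left
        (Subgroup.commutator_mem_commutator (mem_top _) (mem_top _)), ?_⟩
      rw [Subgroup.coe_subtype, commutatorElement_def, commutatorElement_def]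
      push_cast
      calc a * d * a⁻¹ * d⁻¹ = a * (d * a⁻¹ * d⁻¹) := by group
        _ = a * (g * a⁻¹ * g⁻¹) := by rw [he]
        _ = _ := by group
    intro z hz
    have hzL : (z : X) ∈ (L' : Subgroup X) := hL' ▸ ⟨z, hz, rfl⟩
    have hzc : (z : X) ∈ commutator X := by
      have ho : Odd (orderOf (z : X)) :=
        Odd.of_dvd_nat hodd (Subgroup.orderOf_dvd_natCard _ z.2)
      obtain ⟨k, hk⟩ := ho
      rw [show (z : X) = ((z : X) ^ 2) ^ (k + 1) by
        rw [← pow_mul, show 2 * (k + 1) = orderOf (z : X) + 1 by omega, pow_succ,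
          pow_orderOf_eq_one, one_mul]]
      exact pow_mem (sq_mem_commutator hE _) _
    obtain ⟨w, hw, hwz⟩ := hfoc (by
      rw [← Subgroup.commutator_inf_eq_focalSubgroup L']; exact ⟨hzc, hzL⟩)
    exact (Subtype.ext hwz : w = z) ▸ hw
  have htop : W = ⊤ := by
    refine Subgroup.eq_top_of_card_eq W (Nat.dvd_antisymm (Subgroup.card_subgroup_dvd_card W) ?_)
    refine (Nat.dvd_iff_prime_pow_dvd_dvd _ _).2 fun p k hp hpk => ?_
    haveI := Fact.mk hp
    obtain ⟨L⟩ := (inferInstance : Nonempty (Sylow p D))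
    refine ((pow_dvd_pow p ((hp.pow_dvd_iff_le_factorization Nat.card_pos.ne').1 hpk)).trans ?_)
    rw [← L.card_eq_multiplicity]
    exact Subgroup.card_dvd_of_le (hall p L)
  -- so `D'` is perfect, hence trivial
  haveI : Group.IsSolvable D := PF14.feitThompson D hodd
  have hsplit : ∀ a : D, ∃ w ∈ commutator D, ∃ z ∈ (center X).subgroupOf D, a = w * z := by
    intro a
    haveI : ((center X).subgroupOf D).Normal := inferInstance
    obtain ⟨w, hw, z, hz, he⟩ := Subgroup.mem_sup_of_normal_right.1 (htop ▸ mem_top a : a ∈ W)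
    exact ⟨w, hw, z, hz, he.symm⟩
  have hperf : commutator D ≤ ⁅commutator D, commutator D⁆ := by
    rw [_root_.commutator_def, Subgroup.commutator_le]
    intro a _ b _
    obtain ⟨w, hw, z, hz, rfl⟩ := hsplit a
    obtain ⟨w', hw', z', hz', rfl⟩ := hsplit b
    have hzc : ∀ e : D, z * e = e * z := fun e =>
      Subtype.ext (Subgroup.mem_center_iff.1 hz e).symm
    have hzc' : ∀ e : D, z' * e = e * z' := fun e =>
      Subtype.ext (Subgroup.mem_center_iff.1 hz' e).symm
    rw [← _root_.commutator_def]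
    have he : ⁅w * z, w' * z'⁆ = ⁅w, w'⁆ := by
      simp only [commutatorElement_def, mul_inv_rev]
      calc w * z * (w' * z') * (z⁻¹ * w⁻¹) * (z'⁻¹ * w'⁻¹)
          = w * (z * w') * z' * z⁻¹ * w⁻¹ * z'⁻¹ * w'⁻¹ := by group
        _ = w * w' * (z * z') * z⁻¹ * w⁻¹ * z'⁻¹ * w'⁻¹ := by rw [hzc]; group
        _ = w * w' * (z' * w⁻¹) * z'⁻¹ * w'⁻¹ := by rw [hzc z']; group
        _ = w * w' * w⁻¹ * w'⁻¹ := by rw [hzc']; group
    rw [he]
    exact Subgroup.commutator_mem_commutator hw hw'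
  have hbot : commutator D = ⊥ := by
    obtain ⟨n, hn⟩ := (Group.isSolvable_def D).1 inferInstance
    have hk : ∀ n, commutator D ≤ derivedSeries D (n + 1) := by
      intro n
      induction n with
      | zero => rw [derivedSeries_succ, derivedSeries_zero, _root_.commutator_def]
      | succ n ih => rw [derivedSeries_succ]; exact hperf.trans (Subgroup.commutator_mono ih ih)
    exact le_bot_iff.1 ((hk n).trans (by rw [derivedSeries_succ, hn, Subgroup.commutator_bot_left]))
  intro a ha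
  have h1 : (⟨a, ha⟩ : D) ∈ W := htop ▸ mem_top _
  rw [hW, hbot, bot_sup_eq] at h1
  exact h1

end Hyp

end Cfsg.Agent.SubConj42
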