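import Cfsg.Agent.SubConj42.Local

/-!
# The involutions carrying one Sylow 2-subgroup to another
-/

set_option autoImplicit false
set_option linter.style.haveILetI false
set_option linter.unusedSectionVars false

namespace Cfsg.Agent.SubConj42

open Subgroup MulAction
open scoped Pointwise

variable {X : Type*} [Group X] [Finite X]

omit [Finite X] in
theorem mul_eq_mul_inv {u y : X} (hu : orderOf u = 2) (hi : u * y * u⁻¹ = y⁻¹) :
    y * u = u * y⁻¹ := by
  rw [← hi, Involution.inv_of_orderOf hu]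
  simp only [← mul_assoc, Involution.mul_self_of_orderOf hu, one_mul]

namespace Hyp

variable {r : ℕ} (h : Hyp X r)
include h

theorem card_ne_one (P : Sylow 2 X) : Nat.card {s : (P : Subgroup X) // s ≠ 1} = r := by
  classical
  haveI := Fintype.ofFinite (P : Subgroup X)
  rw [Nat.card_eq_fintype_card, Fintype.card_subtype_compl, Fintype.card_subtype_eq,
    ← Nat.card_eq_fintype_card, h.card P]
  omega

theorem card_involutions :
    Nat.card {v : X // orderOf v = 2} = Nat.card (Sylow 2 X) * r := by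
  classical
  haveI := Fintype.ofFinite (Sylow 2 X)
  let f : (Σ P : Sylow 2 X, {s : (P : Subgroup X) // s ≠ 1}) → {v : X // orderOf v = 2} :=
    fun s => ⟨((s.2 : (s.1 : Subgroup X)) : X),
      h.elem.orderOf_eq (s.2 : (s.1 : Subgroup X)).2 fun e => s.2.2 (Subtype.ext e)⟩
  have hf : Function.Bijective f := by
    refine ⟨fun a b hab => ?_, fun v => ?_⟩
    · obtain ⟨P, ⟨⟨a, ha⟩, ha1⟩⟩ := a
      obtain ⟨R, ⟨⟨b, hb⟩, hb1⟩⟩ := b
      have hab' : a = b := congrArg Subtype.val hab
      subst hab'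
      obtain rfl := h.mix.sylow_eq h.elem ha hb fun e => ha1 (Subtype.ext e)
      rfl
    · obtain ⟨P, hP⟩ := exists_sylow_of_involution v.2
      exact ⟨⟨P, ⟨⟨v, hP⟩, fun e =>
        Involution.ne_one_of_orderOf v.2 (congrArg Subtype.val e)⟩⟩, rfl⟩
  rw [← Nat.card_congr (Equiv.ofBijective f hf), Nat.card_sigma]
  simp only [h.card_ne_one, Finset.sum_const, Finset.card_univ, smul_eq_mul,
    ← Nat.card_eq_fintype_card]

theorem card_swap_le (P R : Sylow 2 X) :
    Nat.card {v : X // orderOf v = 2 ∧ v • P = R} ≤ r := by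
  by_cases hR : R = P
  · subst hR
    rw [← h.card_ne_one R]
    refine Nat.card_le_card_of_injective (fun v => ⟨⟨v.1, two_mem_sylow_of_mem_normalizer
      (Sylow.smul_eq_iff_mem_normalizer.1 v.2.2) v.2.1⟩, fun e =>
        Involution.ne_one_of_orderOf v.2.1 (congrArg Subtype.val e)⟩) fun a b hab => ?_
    exact Subtype.ext (congrArg (fun z => ((z : (R : Subgroup X)) : X)) (congrArg Subtype.val hab))
  rcases isEmpty_or_nonempty {v : X // orderOf v = 2 ∧ v • P = R} with hempty | ⟨⟨u, hu, huR⟩⟩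
  · simp
  have huN : u ∉ normalizer ((P : Subgroup X) : Set X) := fun e =>
    hR (huR.symm.trans (Sylow.smul_eq_iff_mem_normalizer.2 e))
  have hfib : ∀ v : {v : X // orderOf v = 2 ∧ v • P = R},
      u * v.1 ∈ normalizer ((P : Subgroup X) : Set X) ∧ u * (u * v.1) * u⁻¹ = (u * v.1)⁻¹ := by
    intro v
    refine ⟨Sylow.smul_eq_iff_mem_normalizer.1 ?_, ?_⟩
    · rw [mul_smul, v.2.2, ← huR, ← mul_smul, Involution.mul_self_of_orderOf hu, one_smul]
    · exact Involution.inverts_mul (Involution.mul_self_of_orderOf hu)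
        (Involution.mul_self_of_orderOf v.2.1)
  by_cases hone : ∀ v : {v : X // orderOf v = 2 ∧ v • P = R}, u * v.1 = 1
  · refine le_trans (Finite.card_le_one_iff_subsingleton.2 ⟨fun a b => Subtype.ext ?_⟩)
      (by have := h.three; omega)
    exact mul_left_cancel ((hone a).trans (hone b).symm)
  push Not at hone
  obtain ⟨v₀, hv₀⟩ := hone
  obtain ⟨hyr, -, -⟩ := h.inverted P hu huN (hfib v₀).1 (hfib v₀).2 hv₀
  rw [← hyr, ← Nat.card_zpowers]
  refine Nat.card_le_card_of_injective (fun v => ⟨u * v.1,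
    h.inverted_unique P hu huN (hfib v₀).1 (hfib v₀).2 hv₀ (hfib v).1 (hfib v).2⟩) fun a b hab => ?_
  exact Subtype.ext (mul_left_cancel (congrArg Subtype.val hab))

theorem card_swap (P R : Sylow 2 X) :
    Nat.card {v : X // orderOf v = 2 ∧ v • P = R} = r := by
  classical
  haveI := Fintype.ofFinite (Sylow 2 X)
  have hsum : ∑ R : Sylow 2 X, Nat.card {v : X // orderOf v = 2 ∧ v • P = R} =
      ∑ _R : Sylow 2 X, r := by
    rw [Finset.sum_const, Finset.card_univ, smul_eq_mul, ← Nat.card_eq_fintype_card,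
      ← h.card_involutions]
    have e : ∀ R : Sylow 2 X, Nat.card {v : X // orderOf v = 2 ∧ v • P = R} =
        Nat.card {v : {v : X // orderOf v = 2} // (v : X) • P = R} := fun R =>
      (Nat.card_congr (Equiv.subtypeSubtypeEquivSubtypeInter (fun v : X => orderOf v = 2)
        (fun v => v • P = R))).symm
    simp only [e]
    rw [← Nat.card_sigma, Nat.card_congr (Equiv.sigmaFiberEquiv
      (fun v : {v : X // orderOf v = 2} => (v : X) • P))]
  exact (Finset.sum_eq_sum_iff_of_le fun R _ => h.card_swap_le P R).1 hsum R (Finset.mem_univ R)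

/-- Any other Sylow subgroup is the image of `P` under an involution inverting an element of order
`r` normalising `P`. -/
theorem exists_swap (P : Sylow 2 X) {R : Sylow 2 X} (hR : R ≠ P) :
    ∃ u y : X, orderOf u = 2 ∧ u • P = R ∧ u ∉ normalizer ((P : Subgroup X) : Set X) ∧
      y ∈ normalizer ((P : Subgroup X) : Set X) ∧ u * y * u⁻¹ = y⁻¹ ∧ orderOf y = r := by
  have hc := h.card_swap P R
  haveI : Nontrivial {v : X // orderOf v = 2 ∧ v • P = R} :=
    Finite.one_lt_card_iff_nontrivial.1 (by rw [hc]; have := h.three; omega)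
  obtain ⟨⟨u, hu, huR⟩, ⟨v, hv, hvR⟩, hne⟩ :=
    exists_pair_ne {v : X // orderOf v = 2 ∧ v • P = R}
  have huN : u ∉ normalizer ((P : Subgroup X) : Set X) := fun e =>
    hR (huR.symm.trans (Sylow.smul_eq_iff_mem_normalizer.2 e))
  have hy : u * v ∈ normalizer ((P : Subgroup X) : Set X) := by
    refine Sylow.smul_eq_iff_mem_normalizer.1 ?_
    rw [mul_smul, hvR, ← huR, ← mul_smul, Involution.mul_self_of_orderOf hu, one_smul]
  have hi := Involution.inverts_mul (x := u) (y := v) (Involution.mul_self_of_orderOf hu)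
    (Involution.mul_self_of_orderOf hv)
  have hy1 : u * v ≠ 1 := fun e => hne (Subtype.ext (show u = v by
    rw [← Involution.inv_of_orderOf hu]; exact inv_eq_of_mul_eq_one_right e))
  exact ⟨u, u * v, hu, huR, huN, hy, hi, (h.inverted P hu huN hy hi hy1).1⟩

theorem exists_ne (P : Sylow 2 X) : ∃ R : Sylow 2 X, R ≠ P := by
  by_contra hc
  push Not at hc
  refine h.nonnormal P (normalizer_eq_top_iff.1 ?_)
  exact eq_top_iff.2 fun g _ => Sylow.smul_eq_iff_mem_normalizer.1 (hc _)

/-- The automiser of a Sylow 2-subgroup has order `r`. -/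
theorem relIndex_sylow (P : Sylow 2 X) :
    (centralizer ((P : Subgroup X) : Set X)).relIndex (normalizer ((P : Subgroup X) : Set X)) = r := by
  obtain ⟨R, hR⟩ := h.exists_ne P
  obtain ⟨u, y, hu, -, huN, hy, hi, hyr⟩ := h.exists_swap P hR
  refine h.relIndex_eq P hy ?_
  exact (h.inverted P hu huN hy hi fun e => by
    rw [e, orderOf_one] at hyr; have := h.three; omega).2.1

theorem coprime_centralizer (P : Sylow 2 X) :
    r.Coprime (Nat.card (centralizer ((P : Subgroup X) : Set X))) := by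
  obtain ⟨R, hR⟩ := h.exists_ne P
  obtain ⟨u, y, hu, -, -, -, hi, hyr⟩ := h.exists_swap P hR
  exact h.prime.coprime_iff_not_dvd.2 (h.not_dvd_card_centralizer hu hyr hi)

/-- Elements commuting with the cube of the automiser. -/
theorem eq_one_of_pow (P : Sylow 2 X) {d : X} (hd : d ∈ centralizer ((P : Subgroup X) : Set X))
    (hr : d ^ r = 1) : d = 1 :=
  orderOf_eq_one_iff.1 (Nat.eq_one_of_dvd_coprimes (h.coprime_centralizer P)
    (orderOf_dvd_of_pow_eq_one hr) (Subgroup.orderOf_dvd_natCard _ hd))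

theorem commute_dd_of_inverted (P : Sylow 2 X) {u y d : X} (hu : orderOf u = 2)
    (huN : u ∉ normalizer ((P : Subgroup X) : Set X))
    (hy : y ∈ normalizer ((P : Subgroup X) : Set X)) (hi : u * y * u⁻¹ = y⁻¹)
    (hd : d ∈ dd P (u • P)) : Commute y d := by
  have hyR : y ∈ normalizer (((u • P : Sylow 2 X) : Subgroup X) : Set X) := by
    refine Sylow.smul_eq_iff_mem_normalizer.1 ?_
    rw [← mul_smul, mul_eq_mul_inv hu hi, mul_smul,
      Sylow.smul_eq_iff_mem_normalizer.2 (inv_mem hy)]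
  have hz : y * d * y⁻¹ ∈ dd P (u • P) :=
    ⟨conj_mem_centralizer hy hd.1, conj_mem_centralizer hyR hd.2⟩
  have h1 : u * (y * d * y⁻¹) * u⁻¹ = y * d * y⁻¹ := by
    rw [(h.commute_dd P hu huN hz).eq, mul_inv_cancel_right]
  have h2 : u * (y * d * y⁻¹) * u⁻¹ = y⁻¹ * d * y := by
    calc u * (y * d * y⁻¹) * u⁻¹
        = (u * y * u⁻¹) * (u * d * u⁻¹) * (u * y * u⁻¹)⁻¹ := by group
      _ = y⁻¹ * d * y := by
        rw [hi, (h.commute_dd P hu huN hd).eq, mul_inv_cancel_right, inv_inv]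
  rw [h1] at h2
  have hsq : Commute (y ^ 2) d := by
    show y ^ 2 * d = d * y ^ 2
    calc y ^ 2 * d = y * (y * d * y⁻¹) * y := by rw [pow_two]; group
      _ = y * (y⁻¹ * d * y) * y := by rw [h2]
      _ = d * y ^ 2 := by rw [pow_two]; group
  by_cases hy1 : y = 1
  · rw [hy1]; exact Commute.one_left _
  obtain ⟨k, hk⟩ := (h.inverted P hu huN hy hi hy1).2.2
  have hw : y = (y ^ 2) ^ (k + 1) := by
    rw [← pow_mul, show 2 * (k + 1) = orderOf y + 1 by omega, pow_succ, pow_orderOf_eq_one,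
      one_mul]
  exact hw ▸ hsq.pow_left _

/-- The elements fixing two Sylow 2-subgroups. -/
theorem mem_inf_normalizer (P : Sylow 2 X) {u y z : X}
    (hu : orderOf u = 2) (huN : u ∉ normalizer ((P : Subgroup X) : Set X))
    (hy : y ∈ normalizer ((P : Subgroup X) : Set X)) (hi : u * y * u⁻¹ = y⁻¹) (hy1 : y ≠ 1)
    (hz : z ∈ normalizer ((P : Subgroup X) : Set X))
    (hz' : z • (u • P) = u • P) : ∃ i : ℕ, (y ^ i)⁻¹ * z ∈ dd P (u • P) := by
  obtain ⟨i, hd⟩ := h.mem_zpowers_mul P hy (h.inverted P hu huN hy hi hy1).2.1 hz (h.relIndex_sylow P)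
  refine ⟨i, hd, ?_⟩
  set d := (y ^ i)⁻¹ * z with hdef
  have hfy : y ∈ normalizer (((u • P : Sylow 2 X) : Subgroup X) : Set X) := by
    refine Sylow.smul_eq_iff_mem_normalizer.1 ?_
    rw [← mul_smul, mul_eq_mul_inv hu hi, mul_smul,
      Sylow.smul_eq_iff_mem_normalizer.2 (inv_mem hy)]
  have hdR : d ∈ normalizer (((u • P : Sylow 2 X) : Subgroup X) : Set X) :=
    mul_mem (inv_mem (pow_mem hfy i)) (Sylow.smul_eq_iff_mem_normalizer.1 hz')
  have hcop : (orderOf d).Coprime r :=
    (Nat.Coprime.coprime_dvd_right (Subgroup.orderOf_dvd_natCard _ hd)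
      (h.coprime_centralizer P)).symm
  obtain ⟨k, hk⟩ := exists_pow_eq_self_of_coprime hcop.symm
  rw [← hk]
  exact pow_mem (h.auto _ d hdR) k

/-- An element of order `r` normalising `P` and inverted by `u` fixes only `P` and `u • P`. -/
theorem fixed_eq (P : Sylow 2 X) {u y : X}
    (hu : orderOf u = 2) (huN : u ∉ normalizer ((P : Subgroup X) : Set X))
    (hy : y ∈ normalizer ((P : Subgroup X) : Set X)) (hi : u * y * u⁻¹ = y⁻¹) (hy1 : y ≠ 1)
    {R : Sylow 2 X} (hR : y • R = R) (hRP : R ≠ P) : R = u • P := by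
  have hyr := (h.inverted P hu huN hy hi hy1).1
  have hyC := (h.inverted P hu huN hy hi hy1).2.1
  -- an involution inverting `y` and carrying `P` to a given fixed point
  have hswap : ∀ R : Sylow 2 X, y • R = R → R ≠ P →
      ∃ v : X, orderOf v = 2 ∧ v • P = R ∧ v * y * v⁻¹ = y⁻¹ := by
    intro R hR hRP
    obtain ⟨v, y', hv, hvR, hvN, hy', hi', hy'r⟩ := h.exists_swap P hRP
    refine ⟨v, hv, hvR, ?_⟩
    have hy'1 : y' ≠ 1 := fun e => by rw [e, orderOf_one] at hy'r; have := h.three; omega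
    obtain ⟨i, hd⟩ := h.mem_inf_normalizer P hv hvN hy' hi' hy'1 hy (by rw [hvR, hR])
    have hc : Commute (y' ^ i) ((y' ^ i)⁻¹ * y) :=
      (h.commute_dd_of_inverted P hv hvN hy' hi' hd).pow_left i
    have h1 : ((y' ^ i)⁻¹ * y) ^ r = 1 := by
      have hc' : Commute (y' ^ i) y := by
        show y' ^ i * y = y * y' ^ i
        have := hc.eq
        rw [mul_inv_cancel_left] at this
        calc y' ^ i * y = y' ^ i * ((y' ^ i)⁻¹ * y * y' ^ i) := by rw [← this]
          _ = _ := by group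
      rw [hc'.inv_left.mul_pow, inv_pow, ← pow_mul, mul_comm, pow_mul, ← hy'r, pow_orderOf_eq_one,
        hy'r, one_pow, inv_one, one_mul, ← hyr, pow_orderOf_eq_one]
    have h2 : y = y' ^ i := by
      have := h.eq_one_of_pow P hd.1 h1
      rwa [inv_mul_eq_one, eq_comm] at this
    rw [h2]
    exact inverts_pow hi' i
  obtain ⟨v, hv, hvR, hvi⟩ := hswap R hR hRP
  set c := u⁻¹ * v with hc
  have hcy : Commute c y := by
    show c * y = y * c
    calc c * y = u⁻¹ * (v * y * v⁻¹) * v := by rw [hc]; group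
      _ = u⁻¹ * y⁻¹ * v := by rw [hvi]
      _ = u⁻¹ * (u * y * u⁻¹) * v := by rw [hi]
      _ = y * c := by rw [hc]; group
  have hcP : c • P = P := by
    by_contra hne
    obtain ⟨w, -, hwR, hwi⟩ := hswap (c • P) (by
      rw [← mul_smul, ← hcy.eq, mul_smul, Sylow.smul_eq_iff_mem_normalizer.2 hy]) hne
    have hg : c⁻¹ * w ∈ normalizer ((P : Subgroup X) : Set X) :=
      Sylow.smul_eq_iff_mem_normalizer.1 (by rw [mul_smul, hwR, inv_smul_smul])
    have hgi : (c⁻¹ * w) * y * (c⁻¹ * w)⁻¹ = y⁻¹ := by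
      calc (c⁻¹ * w) * y * (c⁻¹ * w)⁻¹ = c⁻¹ * (w * y * w⁻¹) * c := by group
        _ = c⁻¹ * y⁻¹ * c := by rw [hwi]
        _ = y⁻¹ := by rw [mul_assoc, ← hcy.inv_right.eq, inv_mul_cancel_left]
    obtain ⟨j, hj⟩ := h.mem_zpowers_mul P hy hyC hg (h.relIndex_sylow P)
    set d := (y ^ j)⁻¹ * (c⁻¹ * w) with hd
    have hdy : d * y * d⁻¹ = y⁻¹ := by
      rw [hd]
      calc (y ^ j)⁻¹ * (c⁻¹ * w) * y * ((y ^ j)⁻¹ * (c⁻¹ * w))⁻¹
          = (y ^ j)⁻¹ * ((c⁻¹ * w) * y * (c⁻¹ * w)⁻¹) * y ^ j := by group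
        _ = y⁻¹ := by
          rw [hgi, mul_assoc, ← ((Commute.refl y).pow_left j).inv_right.eq, inv_mul_cancel_left]
    have hy2 : y ^ 2 ∈ centralizer ((P : Subgroup X) : Set X) := by
      have : y ^ 2 = (y * d * y⁻¹) * d⁻¹ := by
        calc y ^ 2 = y * (y⁻¹)⁻¹ := by rw [pow_two, inv_inv]
          _ = y * (d * y * d⁻¹)⁻¹ := by rw [hdy]
          _ = _ := by group
      rw [this]
      exact mul_mem (conj_mem_centralizer hy hj) (inv_mem hj)
    obtain ⟨k, hk⟩ := (h.inverted P hu huN hy hi hy1).2.2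
    refine hyC ?_
    have hw : y = (y ^ 2) ^ (k + 1) := by
      rw [← pow_mul, show 2 * (k + 1) = orderOf y + 1 by omega, pow_succ, pow_orderOf_eq_one,
        one_mul]
    rw [hw]
    exact pow_mem hy2 _
  rw [← hvR, show v = u * c by rw [hc, mul_inv_cancel_left], mul_smul, hcP]

/-- The centraliser of an inverted element of order `r` meets `C(P)` in `dd`. -/
theorem mem_dd_of_commute (P : Sylow 2 X) {u y c : X}
    (hu : orderOf u = 2) (huN : u ∉ normalizer ((P : Subgroup X) : Set X))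
    (hy : y ∈ normalizer ((P : Subgroup X) : Set X)) (hi : u * y * u⁻¹ = y⁻¹) (hy1 : y ≠ 1)
    (hc : c ∈ centralizer ((P : Subgroup X) : Set X)) (hcy : Commute c y) :
    c ∈ dd P (u • P) := by
  have hne : u • P ≠ P := fun e => huN (Sylow.smul_eq_iff_mem_normalizer.1 e)
  have hyR : y • (u • P) = u • P := by
    rw [← mul_smul, mul_eq_mul_inv hu hi, mul_smul,
      Sylow.smul_eq_iff_mem_normalizer.2 (inv_mem hy)]
  have hcN := centralizer_le_normalizer_self P hc
  have hfix : c • (u • P) = u • P := by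
    refine h.fixed_eq P hu huN hy hi hy1 ?_ fun e => hne ?_
    · rw [← mul_smul, ← hcy.eq, mul_smul, hyR]
    · have h1 := congrArg (fun R => c⁻¹ • R) e
      simp only [inv_smul_smul] at h1
      rw [h1, Sylow.smul_eq_iff_mem_normalizer.2 (inv_mem hcN)]
  obtain ⟨i, hd⟩ := h.mem_inf_normalizer P hu huN hy hi hy1 hcN hfix
  have hyi : y ^ i ∈ centralizer ((P : Subgroup X) : Set X) := by
    have : y ^ i = c * ((y ^ i)⁻¹ * c)⁻¹ := by group
    rw [this]
    exact mul_mem hc (inv_mem hd.1)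
  have h1 : y ^ i = 1 := h.eq_one_of_pow P hyi (by
    rw [← pow_mul, mul_comm, pow_mul, ← (h.inverted P hu huN hy hi hy1).1, pow_orderOf_eq_one,
      one_pow])
  rwa [h1, inv_one, one_mul] at hd

end Hyp

end Cfsg.Agent.SubConj42
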