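import Cfsg.Agent.SubConj42.Reduce
import Cfsg.Agent.SubConj42.Card
import Cfsg.Agent.S4025
import Cfsg.Agent.Lib.LinearGroup.PermTools

/-!
# An elementary abelian Sylow 2-subgroup: generalities and the normal case
-/

set_option autoImplicit false
set_option linter.style.haveILetI false
set_option linter.unusedSectionVars false

namespace Cfsg.Agent.SubConj42

open Subgroup MulAction Cfsg
open scoped Pointwise

variable {G : Type*} [Group G] [Finite G]

theorem elem_of_sylow (S : Sylow 2 G) (h : IsElementaryAbelian 2 (S : Subgroup G)) : Elem G := by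
  haveI := Fact.mk Nat.prime_two
  intro P x hx
  obtain ⟨g, rfl⟩ := MulAction.exists_smul_eq G S P
  rw [Sylow.coe_subgroup_smul] at hx
  obtain ⟨s, hs, rfl⟩ := hx
  show g * s * g⁻¹ * (g * s * g⁻¹) = 1
  have h2 := h.2 s hs
  rw [pow_two] at h2
  rw [show g * s * g⁻¹ * (g * s * g⁻¹) = g * (s * s) * g⁻¹ by group, h2]
  group

theorem Elem.isElementary (hE : Elem G) (S : Sylow 2 G) :
    IsElementaryAbelian 2 (S : Subgroup G) :=
  ⟨⟨⟨fun a b => Subtype.ext (hE.commute a.2 b.2)⟩⟩, fun a ha => by rw [pow_two]; exact hE S a ha⟩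

theorem OFree.of_normal (hfree : OFree G) (M : Subgroup G) [hM : M.Normal] : OFree M := by
  intro N hN ho
  have h1 : N ≤ pPrimeCore 2 M := Thompson.le_pPrimeCore hN (Nat.coprime_two_right.2 ho)
  have h2 := Thompson.map_pPrimeCore_normal_le (p := 2) M
  rw [hfree.pPrimeCore_eq_bot, le_bot_iff, Subgroup.map_eq_bot_iff_of_injective _
    M.subtype_injective] at h2
  exact le_bot_iff.1 (h1.trans h2.le)

omit [Finite G] in
theorem closure_involutions_normal : (closure {v : G | orderOf v = 2}).Normal :=
  ⟨fun x hx g => by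
    have h1 : (closure {v : G | orderOf v = 2}).map (MulAut.conj g : G ≃* G).toMonoidHom ≤
        closure {v : G | orderOf v = 2} := by
      rw [MonoidHom.map_closure]
      refine closure_mono ?_
      rintro _ ⟨v, hv, rfl⟩
      show orderOf (g * v * g⁻¹) = 2
      rw [Involution.orderOf_conj]
      exact hv
    exact h1 ⟨x, hx, rfl⟩⟩

theorem le_centralizer_self (hE : Elem G) (S : Sylow 2 G) :
    (S : Subgroup G) ≤ centralizer ((S : Subgroup G) : Set G) := fun _ hs =>
  Subgroup.mem_centralizer_iff.2 fun _ hw => (hE.commute hw hs).eq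

/-- The index of the Sylow 2-subgroup in its normaliser is odd, so that normaliser is solvable. -/
theorem isSolvable_normalizer (hE : Elem G) (S : Sylow 2 G) :
    Group.IsSolvable (normalizer ((S : Subgroup G) : Set G)) := by
  haveI := Fact.mk Nat.prime_two
  set N := normalizer ((S : Subgroup G) : Set G) with hN
  set S' := (S : Subgroup G).subgroupOf N with hS'
  haveI : S'.Normal := Subgroup.normal_in_normalizer
  haveI : Group.IsSolvable S' := by
    exact Group.isSolvable_of_comm fun a b =>
      Subtype.ext (Subtype.ext (hE.commute (P := S) a.2 b.2).eq)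
  haveI : Group.IsSolvable (N ⧸ S') := by
    refine PF14.feitThompson _ (Nat.odd_iff.2 (Nat.two_dvd_ne_zero.1 fun hd => ?_))
    exact S.not_dvd_index (hd.trans ((dvd_mul_right _ _).trans
      (Subgroup.relIndex_mul_index (le_normalizer (H := (S : Subgroup G)))).dvd))
  exact Group.isSolvable_of_ker_le_range S'.subtype (QuotientGroup.mk' S')
    (by rw [QuotientGroup.ker_mk', Subgroup.range_subtype])

/-- The normaliser of the Sylow subgroup modulo its odd core. -/
theorem normalizer_quotient (hC : ConjSub G) (hE : Elem G) (S : Sylow 2 G) {n : ℕ} (hn : 3 ≤ n)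
    (hcard : Nat.card (S : Subgroup G) = 2 ^ n) :
    (n = 3 ∧
      (Nonempty (↥(normalizer ((S : Subgroup G) : Set G)) ⧸ pPrimeCore 2 ↥(normalizer ((S : Subgroup G) : Set G)) ≃* semiaffineGroup (GaloisField 2 3)) ∨
       Nonempty (↥(normalizer ((S : Subgroup G) : Set G)) ⧸ pPrimeCore 2 ↥(normalizer ((S : Subgroup G) : Set G)) ≃* affineGroup (GaloisField 2 3)))) ∨
    (n = 5 ∧
      Nonempty (↥(normalizer ((S : Subgroup G) : Set G)) ⧸ pPrimeCore 2 ↥(normalizer ((S : Subgroup G) : Set G)) ≃* semiaffineGroup (GaloisField 2 5))) := by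
  haveI := Fact.mk Nat.prime_two
  haveI := isSolvable_normalizer hE S
  haveI : (pPrimeCore 2 ↥(normalizer ((S : Subgroup G) : Set G))).Normal :=
    Thompson.sSup_normal fun _ hN => hN.1
  rcases S4025.result (fun H K _ _ h => hC H K h) S n hn (hE.isElementary S) hcard
    (normalizer ((S : Subgroup G) : Set G)) rfl inferInstance with ⟨h3, -, hh⟩ | ⟨h5, -, hh⟩
  · exact Or.inl ⟨h3, hh rfl⟩
  · exact Or.inr ⟨h5, hh⟩

/-- A normal Sylow 2-subgroup is its own centraliser. -/
theorem centralizer_eq_of_normal (hfree : OFree G) (hE : Elem G) (S : Sylow 2 G)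
    (hS : (S : Subgroup G).Normal) : centralizer ((S : Subgroup G) : Set G) = (S : Subgroup G) := by
  haveI := hS
  set C := centralizer ((S : Subgroup G) : Set G) with hC
  haveI : C.Normal := inferInstance
  have hle := le_centralizer_self hE S
  have h1 := (hfree.of_normal C).eq_top_of_burnside (S.subtype hle) (by
    intro c _
    rw [Subgroup.mem_centralizer_iff]
    intro s hs
    exact Subtype.ext (Subgroup.mem_centralizer_iff.1 c.2 (s : G) hs))
  rw [Sylow.coe_subtype, Subgroup.subgroupOf_eq_top] at h1
  exact le_antisymm h1 hle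

/-- The normal case. -/
theorem normal_case (hC : ConjSub G) (hfree : OFree G) (hE : Elem G) (S : Sylow 2 G)
    (hS : (S : Subgroup G).Normal) {n : ℕ} (hn : 2 ≤ n)
    (hcard : Nat.card (S : Subgroup G) = 2 ^ n) :
    (n = 2 ∧ Nonempty (G ≃* alternatingGroup (Fin 4))) ∨
      (3 ≤ n ∧ (Nonempty (G ≃* affineGroup (GaloisField 2 3)) ∨
        Nonempty (G ≃* semiaffineGroup (GaloisField 2 3)) ∨
        Nonempty (G ≃* semiaffineGroup (GaloisField 2 5)))) := by
  classical
  haveI := Fact.mk Nat.prime_two
  haveI := hS
  rcases Nat.lt_or_ge n 3 with hn3 | hn3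
  · -- order four: the alternating group of degree four
    obtain rfl : n = 2 := by omega
    left
    refine ⟨rfl, ?_⟩
    set T := {s : (S : Subgroup G) // s ≠ 1} with hT
    have hT3 : Nat.card T = 3 := by
      haveI := Fintype.ofFinite (S : Subgroup G)
      rw [Nat.card_eq_fintype_card, Fintype.card_subtype_compl, Fintype.card_subtype_eq,
        ← Nat.card_eq_fintype_card, hcard]
      norm_num
    -- the action on the involutions
    let ψ : G →* Equiv.Perm T :=
      { toFun := fun g =>
          { toFun := fun s => ⟨⟨g * (s.1 : G) * g⁻¹, hS.conj_mem _ s.1.2 g⟩, fun e =>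
              s.2 (Subtype.ext (conj_eq_one_iff.1 (congrArg Subtype.val e)))⟩
            invFun := fun s => ⟨⟨g⁻¹ * (s.1 : G) * g⁻¹⁻¹, hS.conj_mem _ s.1.2 g⁻¹⟩, fun e =>
              s.2 (Subtype.ext (conj_eq_one_iff.1 (congrArg Subtype.val e)))⟩
            left_inv := fun s => by
              apply Subtype.ext; apply Subtype.ext
              simp [mul_assoc]
            right_inv := fun s => by
              apply Subtype.ext; apply Subtype.ext
              simp [mul_assoc] }
        map_one' := by
          refine Equiv.ext fun s => Subtype.ext (Subtype.ext ?_)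
          simp
        map_mul' := fun a b => by
          refine Equiv.ext fun s => Subtype.ext (Subtype.ext ?_)
          simp [mul_assoc] }
    have hker : ψ.ker = (S : Subgroup G) := by
      refine le_antisymm (fun g hg => ?_) fun g hg => ?_
      · rw [← centralizer_eq_of_normal hfree hE S hS, Subgroup.mem_centralizer_iff]
        intro s hs
        by_cases hs1 : s = 1
        · rw [hs1, one_mul, mul_one]
        have := congrArg (fun e : T => ((e.1 : (S : Subgroup G)) : G))
          (Equiv.congr_fun (MonoidHom.mem_ker.1 hg) ⟨⟨s, hs⟩, fun e => hs1 (congrArg Subtype.val e)⟩)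
        simp only [Equiv.Perm.coe_one, id_eq] at this
        change g * s * g⁻¹ = s at this
        exact (mul_inv_eq_iff_eq_mul.1 this).symm
      · refine MonoidHom.mem_ker.2 (Equiv.ext fun s => Subtype.ext (Subtype.ext ?_))
        show g * (s.1 : G) * g⁻¹ = (s.1 : G)
        rw [(hE.commute hg s.1.2).eq, mul_inv_cancel_right]
    have hidx : (S : Subgroup G).index = 1 ∨ (S : Subgroup G).index = 3 := by
      have h1 : (S : Subgroup G).index ∣ 6 := by
        rw [← hker, Subgroup.index_ker]
        refine dvd_trans (Subgroup.card_subgroup_dvd_card _) ?_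
        rw [Nat.card_perm, hT3]
        rfl
      have h2 := S.not_dvd_index
      have h3 := Nat.le_of_dvd (by norm_num) h1
      interval_cases (S : Subgroup G).index <;> omega
    rcases hidx with h1 | h3
    · exfalso
      rw [Subgroup.index_eq_one] at h1
      obtain ⟨s, hs, s', hs', hne⟩ : ∃ s, orderOf s = 2 ∧ ∃ s', orderOf s' = 2 ∧ s ≠ (s' : G) := by
        haveI : Nontrivial T := Finite.one_lt_card_iff_nontrivial.1 (by rw [hT3]; norm_num)
        obtain ⟨a, b, hab⟩ := exists_pair_ne T
        exact ⟨a.1, hE.orderOf_eq a.1.2 fun e => a.2 (Subtype.ext e), b.1,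
          hE.orderOf_eq b.1.2 fun e => b.2 (Subtype.ext e),
          fun e => hab (Subtype.ext (Subtype.ext e))⟩
      obtain ⟨g, hg⟩ := hC.isConj hs hs'
      rw [(hE.commute (P := S) (a := g) (b := s) (h1 ▸ mem_top g) (h1 ▸ mem_top s)).eq,
        mul_inv_cancel_right] at hg
      exact hne hg
    · have hG : Nat.card G = 12 := by
        rw [← (S : Subgroup G).card_mul_index, hcard, h3]; norm_num
      obtain ⟨x, hx⟩ := (haveI := Fact.mk Nat.prime_three
        exists_prime_orderOf_dvd_card' (G := G) 3 (by rw [hG]; norm_num))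
      haveI := Fintype.ofFinite (G ⧸ zpowers x)
      refine LinearGroup.nonempty_mulEquiv_alternating (α := G ⧸ zpowers x) (toPermHom G _) ?_ ?_
        (by rw [hG]; rfl)
      · rw [← MonoidHom.ker_eq_bot_iff, ← Subgroup.normalCore_eq_ker]
        refine hfree _ inferInstance (Odd.of_dvd_nat ?_ (Subgroup.card_dvd_of_le (normalCore_le _)))
        rw [Nat.card_zpowers, hx]
        decide
      · rw [← Nat.card_eq_fintype_card]
        have := (zpowers x).card_mul_index
        rw [Nat.card_zpowers, hx, hG] at this
        show (zpowers x).index = 4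
        omega
  · right
    refine ⟨hn3, ?_⟩
    have hN : normalizer ((S : Subgroup G) : Set G) = ⊤ := normalizer_eq_top_iff.2 hS
    have hfree' : pPrimeCore 2 ↥(normalizer ((S : Subgroup G) : Set G)) = ⊥ := by
      haveI : (normalizer ((S : Subgroup G) : Set G)).Normal := by rw [hN]; infer_instance
      exact (hfree.of_normal _).pPrimeCore_eq_bot
    haveI : (pPrimeCore 2 ↥(normalizer ((S : Subgroup G) : Set G))).Normal :=
      Thompson.sSup_normal fun _ hN => hN.1
    let e : G ≃* ↥(normalizer ((S : Subgroup G) : Set G)) ⧸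
        pPrimeCore 2 ↥(normalizer ((S : Subgroup G) : Set G)) :=
      ((Subgroup.topEquiv.symm.trans (MulEquiv.subgroupCongr hN.symm)).trans
        (QuotientGroup.quotientBot (G := ↥(normalizer ((S : Subgroup G) : Set G)))).symm).trans
        (QuotientGroup.quotientMulEquivOfEq hfree'.symm)
    rcases normalizer_quotient hC hE S hn3 hcard with ⟨-, hf | hf⟩ | ⟨-, hf⟩
    · exact Or.inr (Or.inl (hf.map e.trans))
    · exact Or.inl (hf.map e.trans)
    · exact Or.inr (Or.inr (hf.map e.trans))

end Cfsg.Agent.SubConj42
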