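import Cfsg.Agent.SubConj42.Basic

/-!
# Trivially intersecting elementary abelian Sylow 2-subgroups
-/

set_option autoImplicit false
set_option linter.style.haveILetI false
set_option linter.unusedSectionVars false

namespace Cfsg.Agent.SubConj42

open Subgroup MulAction
open scoped Pointwise

variable {X : Type*} [Group X] [Finite X]

/-- Every element of a Sylow 2-subgroup squares to `1`. -/
def Elem (X : Type*) [Group X] : Prop := ∀ (P : Sylow 2 X), ∀ x ∈ (P : Subgroup X), x * x = 1

theorem Elem.orderOf_eq (hE : Elem X) {P : Sylow 2 X} {t : X} (ht : t ∈ (P : Subgroup X))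
    (ht1 : t ≠ 1) : orderOf t = 2 :=
  orderOf_eq_prime (by rw [pow_two]; exact hE P t ht) ht1

theorem Elem.commute (hE : Elem X) {P : Sylow 2 X} {a b : X} (ha : a ∈ (P : Subgroup X))
    (hb : b ∈ (P : Subgroup X)) : Commute a b := by
  have h1 := hE P a ha
  have h2 := hE P b hb
  have h3 := hE P _ (mul_mem ha hb)
  calc a * b = a * (a * b * (a * b)) * b := by rw [h3, mul_one]
    _ = a * a * (b * a) * (b * b) := by group
    _ = b * a := by rw [h1, h2, one_mul, mul_one]

theorem exists_sylow_of_involution {t : X} (ht : orderOf t = 2) :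
    ∃ P : Sylow 2 X, t ∈ (P : Subgroup X) := by
  haveI := Fact.mk Nat.prime_two
  obtain ⟨P, hP⟩ := (IsPGroup.of_card (n := 1)
    (by rw [Nat.card_zpowers, ht, pow_one]) : IsPGroup 2 (zpowers t)).exists_le_sylow
  exact ⟨P, hP (mem_zpowers t)⟩

theorem Elem.le_centralizer (hE : Elem X) {P : Sylow 2 X} {t : X} (ht : t ∈ (P : Subgroup X)) :
    (P : Subgroup X) ≤ centralizer ({t} : Set X) := fun _ ha =>
  mem_centralizer_singleton_iff.2 (hE.commute ha ht).eq

/-- A Sylow subgroup normalised by another contains it. -/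
theorem sylow_eq_of_le_normalizer {P R : Sylow 2 X}
    (h : (R : Subgroup X) ≤ normalizer ((P : Subgroup X) : Set X)) : P = R := by
  haveI := Fact.mk Nat.prime_two
  have hsup : IsPGroup 2 ↥((R : Subgroup X) ⊔ (P : Subgroup X)) :=
    IsPGroup.to_sup_of_normal_right' R.2 P.2 h
  exact Sylow.ext ((P.3 hsup le_sup_right).symm.trans (R.3 hsup le_sup_left))

/-- The centraliser of an involution normalises the Sylow 2-subgroups through it. -/
theorem NoMix.centralizer_le_normalizer (hm : NoMix X) (hE : Elem X) {P : Sylow 2 X} {t : X}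
    (ht : t ∈ (P : Subgroup X)) (ht1 : t ≠ 1) :
    centralizer ({t} : Set X) ≤ normalizer ((P : Subgroup X) : Set X) := by
  haveI := Fact.mk Nat.prime_two
  set C := centralizer ({t} : Set X) with hC
  have hPC : (P : Subgroup X) ≤ C := hE.le_centralizer ht
  set O := (Cfsg.pCore 2 C).map C.subtype with hO
  have hle : (P : Subgroup X) ≤ O := by
    intro v hv
    by_cases hv1 : v = 1
    · subst hv1; exact one_mem _
    exact ⟨⟨v, hPC hv⟩, hm.mem_pCore (hE.orderOf_eq ht ht1) (hE.orderOf_eq hv hv1) (hPC hv), rfl⟩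
  have heq : O = (P : Subgroup X) := P.3 (Thompson.isPGroup_pCore.map _) hle
  have hCn : C ≤ normalizer (O : Set X) := by
    intro c hc
    haveI : (Cfsg.pCore 2 C).Normal := Thompson.instPCoreNormal
    rw [Subgroup.mem_normalizer_iff]
    intro z
    constructor
    · rintro ⟨w, hw, rfl⟩
      exact ⟨⟨c, hc⟩ * w * ⟨c, hc⟩⁻¹, this.conj_mem w hw _, rfl⟩
    · rintro ⟨w, hw, he⟩
      refine ⟨⟨c, hc⟩⁻¹ * w * ⟨c, hc⟩⁻¹⁻¹, this.conj_mem w hw _, ?_⟩
      have h2 : (w : X) = c * z * c⁻¹ := he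
      simp [h2, mul_assoc]
  rwa [heq] at hCn

/-- The Sylow 2-subgroups intersect trivially. -/
theorem NoMix.sylow_eq (hm : NoMix X) (hE : Elem X) {P R : Sylow 2 X} {t : X}
    (htP : t ∈ (P : Subgroup X)) (htR : t ∈ (R : Subgroup X)) (ht1 : t ≠ 1) : P = R :=
  sylow_eq_of_le_normalizer ((hE.le_centralizer htR).trans (hm.centralizer_le_normalizer hE htP ht1))

theorem two_mem_sylow_of_mem_normalizer {P : Sylow 2 X} {w : X}
    (hw : w ∈ normalizer ((P : Subgroup X) : Set X)) (h2 : orderOf w = 2) :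
    w ∈ (P : Subgroup X) := by
  haveI := Fact.mk Nat.prime_two
  have hsup : IsPGroup 2 ↥(zpowers w ⊔ (P : Subgroup X)) :=
    IsPGroup.to_sup_of_normal_right' (IsPGroup.of_card (n := 1) (by rw [Nat.card_zpowers, h2, pow_one]))
      P.2 (zpowers_le.2 hw)
  exact (P.3 hsup le_sup_right).le (mem_sup_left (mem_zpowers w))

/-- The hypotheses: `r + 1` is the order of a Sylow 2-subgroup and `r` bounds the automiser. -/
structure Hyp (X : Type*) [Group X] (r : ℕ) : Prop where
  mix : NoMix X
  elem : Elem X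
  prime : r.Prime
  three : 3 ≤ r
  card : ∀ P : Sylow 2 X, Nat.card (P : Subgroup X) = r + 1
  nonnormal : ∀ P : Sylow 2 X, ¬ (P : Subgroup X).Normal
  auto : ∀ (P : Sylow 2 X), ∀ g ∈ normalizer ((P : Subgroup X) : Set X),
    g ^ r ∈ centralizer ((P : Subgroup X) : Set X)

/-- The intersection of the centralisers of two Sylow 2-subgroups. -/
def dd (P R : Sylow 2 X) : Subgroup X :=
  centralizer ((P : Subgroup X) : Set X) ⊓ centralizer ((R : Subgroup X) : Set X)

theorem mem_dd {P R : Sylow 2 X} {d : X} :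
    d ∈ dd P R ↔ d ∈ centralizer ((P : Subgroup X) : Set X) ∧
      d ∈ centralizer ((R : Subgroup X) : Set X) := Iff.rfl

theorem mem_centralizer_of_smul {P : Sylow 2 X} {g d : X}
    (h : g⁻¹ * d * g ∈ centralizer ((P : Subgroup X) : Set X)) :
    d ∈ centralizer (((g • P : Sylow 2 X) : Subgroup X) : Set X) := by
  rw [Sylow.coe_subgroup_smul, Subgroup.mem_centralizer_iff]
  rintro _ ⟨x, hx, rfl⟩
  have h1 := Subgroup.mem_centralizer_iff.1 h x hx
  show g * x * g⁻¹ * d = d * (g * x * g⁻¹)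
  calc g * x * g⁻¹ * d = g * (x * (g⁻¹ * d * g)) * g⁻¹ := by group
    _ = g * ((g⁻¹ * d * g) * x) * g⁻¹ := by rw [h1]
    _ = _ := by group

theorem centralizer_smul {P : Sylow 2 X} {g d : X}
    (h : d ∈ centralizer (((g • P : Sylow 2 X) : Subgroup X) : Set X)) :
    g⁻¹ * d * g ∈ centralizer ((P : Subgroup X) : Set X) := by
  rw [Subgroup.mem_centralizer_iff]
  intro x hx
  have h1 := Subgroup.mem_centralizer_iff.1 h (g * x * g⁻¹)
    (by rw [Sylow.coe_subgroup_smul]; exact ⟨x, hx, rfl⟩)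
  calc x * (g⁻¹ * d * g) = g⁻¹ * (g * x * g⁻¹ * d) * g := by group
    _ = g⁻¹ * (d * (g * x * g⁻¹)) * g := by rw [h1]
    _ = _ := by group

theorem conj_mem_centralizer {P : Sylow 2 X} {g d : X}
    (hg : g ∈ normalizer ((P : Subgroup X) : Set X)) (hd : d ∈ centralizer ((P : Subgroup X) : Set X)) :
    g * d * g⁻¹ ∈ centralizer ((P : Subgroup X) : Set X) := by
  have : g⁻¹ • P = P := Sylow.smul_eq_iff_mem_normalizer.2 (inv_mem hg)
  have h := centralizer_smul (g := g⁻¹) (P := P) (d := d) (by rw [this]; exact hd)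
  simpa using h

theorem centralizer_le_normalizer_self (P : Sylow 2 X) :
    centralizer ((P : Subgroup X) : Set X) ≤ normalizer ((P : Subgroup X) : Set X) := by
  intro c hc
  rw [Subgroup.mem_normalizer_iff]
  intro z
  constructor
  · intro hz
    rwa [← Subgroup.mem_centralizer_iff.1 hc z hz, mul_inv_cancel_right]
  · intro hz
    have h1 := Subgroup.mem_centralizer_iff.1 hc _ hz
    have h2 : z = c * z * c⁻¹ := by
      calc z = c⁻¹ * (c * z * c⁻¹ * c) := by group
        _ = c⁻¹ * (c * (c * z * c⁻¹)) := by rw [h1]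
        _ = _ := by group
    rwa [h2]

namespace Hyp

variable {r : ℕ} (h : Hyp X r)
include h

theorem exists_ne_one (P : Sylow 2 X) : ∃ t ∈ (P : Subgroup X), t ≠ 1 := by
  by_contra hc
  push Not at hc
  have hb : (P : Subgroup X) = ⊥ := (Subgroup.eq_bot_iff_forall _).2 hc
  have := h.card P
  rw [hb, Subgroup.card_bot] at this
  have := h.three
  omega

/-- An element of odd prime order centralising a Sylow 2-subgroup is inverted by no involution. -/
theorem not_inverted {P : Sylow 2 X} {u d : X} (hu : orderOf u = 2) (hd : Odd (orderOf d))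
    (hdC : d ∈ centralizer ((P : Subgroup X) : Set X)) (hi : u * d * u⁻¹ = d⁻¹) : d = 1 := by
  obtain ⟨t, ht, ht1⟩ := h.exists_ne_one P
  exact h.mix.eq_one (h.elem.orderOf_eq ht ht1) hu hd (Subgroup.mem_centralizer_iff.1 hdC t ht) hi

/-- An element of the normaliser fixing an involution centralises the Sylow subgroup. -/
theorem mem_centralizer (P : Sylow 2 X) {t x : X} (ht : t ∈ (P : Subgroup X)) (ht1 : t ≠ 1)
    (hx : x ∈ normalizer ((P : Subgroup X) : Set X)) (hc : Commute x t) :
    x ∈ centralizer ((P : Subgroup X) : Set X) := by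
  haveI := Fact.mk Nat.prime_two
  haveI := Fact.mk h.prime
  set N := normalizer ((P : Subgroup X) : Set X) with hN
  set ψ := (P : Subgroup X).normalizerMonoidHom with hψ
  set a := ψ ⟨x, hx⟩ with ha
  have har : a ^ r = 1 := by
    rw [ha, ← map_pow, ← MonoidHom.mem_ker, hψ, Subgroup.normalizerMonoidHom_ker,
      Subgroup.mem_subgroupOf]
    exact h.auto P x hx
  have hA : IsPGroup r (zpowers a) := by
    obtain ⟨i, -, hi⟩ := (Nat.dvd_prime_pow h.prime).1 (show orderOf a ∣ r ^ 1 by
      rw [pow_one]; exact orderOf_dvd_of_pow_eq_one har)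
    exact IsPGroup.of_card (by rw [Nat.card_zpowers, hi])
  letI : MulAction (zpowers a) (P : Subgroup X) :=
    MulAction.compHom _ ((zpowers a).subtype)
  have hmod := hA.card_modEq_card_fixedPoints (α := (P : Subgroup X))
  let F : Subgroup (P : Subgroup X) :=
    { carrier := {s | a s = s}
      one_mem' := map_one a
      mul_mem' := fun {s s'} (hs : a s = s) (hs' : a s' = s') => show a (s * s') = s * s' by
        rw [map_mul, hs, hs']
      inv_mem' := fun {s} (hs : a s = s) => show a s⁻¹ = s⁻¹ by rw [map_inv, hs] }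
  have hfix : fixedPoints (zpowers a) (P : Subgroup X) = (F : Set (P : Subgroup X)) := by
    ext s
    constructor
    · intro hs
      exact hs ⟨a, mem_zpowers a⟩
    · intro hs g
      obtain ⟨k, hk⟩ := Subgroup.mem_zpowers_iff.1 g.2
      have hst : a ∈ MulAction.stabilizer (MulAut (P : Subgroup X)) s := hs
      have := zpow_mem hst k
      rw [hk] at this
      exact this
  rw [hfix] at hmod
  have htF : (⟨t, ht⟩ : (P : Subgroup X)) ∈ F := by
    show a ⟨t, ht⟩ = ⟨t, ht⟩
    refine Subtype.ext ?_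
    rw [ha, hψ]
    show x * t * x⁻¹ = t
    rw [hc.eq, mul_inv_cancel_right]
  have hcard : Nat.card F = Nat.card (P : Subgroup X) := by
    have h1 : 1 < Nat.card F := Subgroup.one_lt_card_iff_ne_bot _ |>.2 fun e => by
      rw [e, mem_bot] at htF
      exact ht1 (congrArg Subtype.val htF)
    have h2 := Nat.le_of_dvd Nat.card_pos (Subgroup.card_subgroup_dvd_card F)
    rw [h.card P] at hmod h2 ⊢
    change r + 1 ≡ Nat.card F [MOD r] at hmod
    unfold Nat.ModEq at hmod
    rw [Nat.add_mod_left, Nat.mod_eq_of_lt (by have := h.three; omega : 1 < r)] at hmod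
    rcases Nat.lt_or_ge (Nat.card F) r with h3 | h3
    · rw [Nat.mod_eq_of_lt h3] at hmod; omega
    · rcases Nat.lt_or_ge r (Nat.card F) with h4 | h4
      · omega
      · rw [le_antisymm h4 h3, Nat.mod_self] at hmod; omega
  have hFtop : F = ⊤ := Subgroup.eq_top_of_card_eq F hcard
  rw [Subgroup.mem_centralizer_iff]
  intro s hs
  have h5 : (⟨s, hs⟩ : (P : Subgroup X)) ∈ F := hFtop ▸ mem_top _
  have h6 := congrArg Subtype.val (show a ⟨s, hs⟩ = ⟨s, hs⟩ from h5)
  rw [ha, hψ] at h6
  change x * s * x⁻¹ = s at h6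
  exact (mul_inv_eq_iff_eq_mul.1 h6).symm

/-- The centraliser of an involution is the centraliser of its Sylow 2-subgroup. -/
theorem centralizer_eq (P : Sylow 2 X) {t : X} (ht : t ∈ (P : Subgroup X)) (ht1 : t ≠ 1) :
    centralizer ({t} : Set X) = centralizer ((P : Subgroup X) : Set X) :=
  le_antisymm (fun _ hx => h.mem_centralizer P ht ht1
      (h.mix.centralizer_le_normalizer h.elem ht ht1 hx) (mem_centralizer_singleton_iff.1 hx))
    (centralizer_le (Set.singleton_subset_iff.2 ht))

theorem not_dvd_card_centralizer {P : Sylow 2 X} {u y : X} (hu : orderOf u = 2)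
    (hy : orderOf y = r) (hi : u * y * u⁻¹ = y⁻¹) :
    ¬ r ∣ Nat.card (centralizer ((P : Subgroup X) : Set X)) := by
  intro hd
  haveI := Fact.mk h.prime
  obtain ⟨x, hx⟩ := exists_prime_orderOf_dvd_card' (G := centralizer ((P : Subgroup X) : Set X)) r hd
  obtain ⟨t, ht, ht1⟩ := h.exists_ne_one P
  exact h.mix r h.prime (by have := h.three; omega) (x : X) y t u
    (by rw [Subgroup.orderOf_coe, hx]) hy (h.elem.orderOf_eq ht ht1) hu
    (Subgroup.mem_centralizer_iff.1 x.2 t ht) hi

/-- Elements of the normaliser inverted by an involution outside it. -/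
theorem inverted (P : Sylow 2 X) {u y : X} (hu : orderOf u = 2)
    (huN : u ∉ normalizer ((P : Subgroup X) : Set X))
    (hy : y ∈ normalizer ((P : Subgroup X) : Set X)) (hi : u * y * u⁻¹ = y⁻¹) (hy1 : y ≠ 1) :
    orderOf y = r ∧ y ∉ centralizer ((P : Subgroup X) : Set X) ∧ Odd (orderOf y) := by
  have hodd : Odd (orderOf y) := by
    rw [← Nat.not_even_iff_odd]
    intro he
    have hpos := orderOf_pos y
    obtain ⟨k, hk⟩ := he
    have h2 : orderOf (y ^ k) = 2 := by
      rw [orderOf_pow' _ (by omega), hk, Nat.gcd_eq_right (Dvd.intro_left 2 (by ring))]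
      rw [← two_mul, Nat.mul_div_cancel _ (by omega)]
    have hw := two_mem_sylow_of_mem_normalizer (pow_mem hy k) h2
    have hi2 := inverts_pow hi k
    rw [Involution.inv_of_orderOf h2] at hi2
    exact huN (h.mix.centralizer_le_normalizer h.elem hw (Involution.ne_one_of_orderOf h2)
      (mem_centralizer_singleton_iff.2 (mul_inv_eq_iff_eq_mul.1 hi2)))
  have hyr := h.auto P y hy
  have h1 : y ^ r = 1 := h.not_inverted hu (Odd.of_dvd_nat hodd (orderOf_pow_dvd r)) hyr (inverts_pow hi r)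
  refine ⟨((Nat.dvd_prime h.prime).1 (orderOf_dvd_of_pow_eq_one h1)).resolve_left
    (fun e => hy1 (orderOf_eq_one_iff.1 e)), fun hc => hy1 (h.not_inverted hu hodd hc hi), hodd⟩

theorem odd_card_dd {P R : Sylow 2 X} (hne : P ≠ R) : Odd (Nat.card (dd P R)) := by
  rw [← Nat.not_even_iff_odd]
  intro he
  haveI := Fact.mk Nat.prime_two
  obtain ⟨w, hw⟩ := exists_prime_orderOf_dvd_card' (G := dd P R) 2 (even_iff_two_dvd.1 he)
  have h2 : orderOf (w : X) = 2 := by rw [Subgroup.orderOf_coe, hw]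
  exact hne (h.mix.sylow_eq h.elem
    (two_mem_sylow_of_mem_normalizer (centralizer_le_normalizer_self P w.2.1) h2)
    (two_mem_sylow_of_mem_normalizer (centralizer_le_normalizer_self R w.2.2) h2)
    (Involution.ne_one_of_orderOf h2))

/-- An involution interchanging two Sylow 2-subgroups centralises `dd`. -/
theorem commute_dd (P : Sylow 2 X) {u : X} (hu : orderOf u = 2)
    (huN : u ∉ normalizer ((P : Subgroup X) : Set X)) {d : X} (hd : d ∈ dd P (u • P)) :
    Commute u d := by
  have hne : P ≠ u • P := fun e => huN (Sylow.smul_eq_iff_mem_normalizer.1 e.symm)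
  obtain ⟨t, ht, ht1⟩ := h.exists_ne_one P
  have hui : u⁻¹ = u := Involution.inv_of_orderOf hu
  refine h.mix.commute (h.elem.orderOf_eq ht ht1) hu (h.odd_card_dd hne) (fun z hz => ⟨?_, ?_⟩)
    (fun z hz => Subgroup.mem_centralizer_iff.1 hz.1 t ht) hd
  · have := centralizer_smul hz.2
    rw [hui] at this ⊢
    exact this
  · refine mem_centralizer_of_smul ?_
    rw [show u⁻¹ * (u * z * u⁻¹) * u = z by group]
    exact hz.1

theorem mem_zpowers_mul (P : Sylow 2 X) {y g : X} (hy : y ∈ normalizer ((P : Subgroup X) : Set X))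
    (hyC : y ∉ centralizer ((P : Subgroup X) : Set X))
    (hg : g ∈ normalizer ((P : Subgroup X) : Set X))
    (hcard : (centralizer ((P : Subgroup X) : Set X)).relIndex
      (normalizer ((P : Subgroup X) : Set X)) = r) :
    ∃ i : ℕ, (y ^ i)⁻¹ * g ∈ centralizer ((P : Subgroup X) : Set X) := by
  set N := normalizer ((P : Subgroup X) : Set X)
  set C := centralizer ((P : Subgroup X) : Set X) with hC
  haveI : (C.subgroupOf N).Normal := ⟨fun c hc z => conj_mem_centralizer z.2 hc⟩
  haveI := Fact.mk h.prime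
  have hQ : Nat.card (N ⧸ C.subgroupOf N) = r := hcard
  have hy1 : (QuotientGroup.mk ⟨y, hy⟩ : N ⧸ C.subgroupOf N) ≠ 1 := fun e =>
    hyC ((QuotientGroup.eq_one_iff (⟨y, hy⟩ : N)).1 e)
  obtain ⟨i, hi⟩ := mem_powers_iff_mem_zpowers.2
    (show (QuotientGroup.mk ⟨g, hg⟩ : N ⧸ C.subgroupOf N) ∈ zpowers (QuotientGroup.mk ⟨y, hy⟩) from
      mem_zpowers_of_prime_card hQ hy1)
  refine ⟨i, ?_⟩
  have h2 : (QuotientGroup.mk (((⟨y, hy⟩ : N) ^ i)⁻¹ * ⟨g, hg⟩) : N ⧸ C.subgroupOf N) = 1 := by
    rw [QuotientGroup.mk_mul, QuotientGroup.mk_inv, QuotientGroup.mk_pow, ← hi, inv_mul_cancel]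
  exact (QuotientGroup.eq_one_iff ((((⟨y, hy⟩ : N) ^ i)⁻¹ * ⟨g, hg⟩ : N))).1 h2

theorem relIndex_eq (P : Sylow 2 X) {y : X} (hy : y ∈ normalizer ((P : Subgroup X) : Set X))
    (hyC : y ∉ centralizer ((P : Subgroup X) : Set X)) :
    (centralizer ((P : Subgroup X) : Set X)).relIndex (normalizer ((P : Subgroup X) : Set X)) = r := by
  haveI := Fact.mk h.prime
  set N := normalizer ((P : Subgroup X) : Set X)
  set C := centralizer ((P : Subgroup X) : Set X) with hC
  haveI : (C.subgroupOf N).Normal := ⟨fun c hc z => conj_mem_centralizer z.2 hc⟩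
  -- the automiser acts regularly on the involutions
  obtain ⟨t, ht, ht1⟩ := h.exists_ne_one P
  let f : (N ⧸ C.subgroupOf N) → {s : (P : Subgroup X) // s ≠ 1} := fun q =>
    ⟨⟨(q.out : X) * t * (q.out : X)⁻¹, (Subgroup.mem_normalizer_iff.1 q.out.2 t).1 ht⟩, fun e => by
      have := congrArg Subtype.val e
      simp at this
      exact ht1 this⟩
  have hf : Function.Injective f := by
    intro a b hab
    have h1 : (a.out : X) * t * (a.out : X)⁻¹ = (b.out : X) * t * (b.out : X)⁻¹ :=
      congrArg (fun z => ((z : (P : Subgroup X)) : X)) (congrArg Subtype.val hab)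
    rw [← QuotientGroup.out_eq' a, ← QuotientGroup.out_eq' b, QuotientGroup.eq]
    refine h.mem_centralizer P ht ht1 (mul_mem (inv_mem a.out.2) b.out.2) ?_
    show ((a.out : X)⁻¹ * (b.out : X)) * t = t * ((a.out : X)⁻¹ * (b.out : X))
    calc ((a.out : X)⁻¹ * (b.out : X)) * t
        = (a.out : X)⁻¹ * ((b.out : X) * t * (b.out : X)⁻¹) * (b.out : X) := by group
      _ = (a.out : X)⁻¹ * ((a.out : X) * t * (a.out : X)⁻¹) * (b.out : X) := by rw [h1]
      _ = _ := by group
  have hle := Nat.card_le_card_of_injective f hf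
  have hS : Nat.card {s : (P : Subgroup X) // s ≠ 1} = r := by
    classical
    haveI := Fintype.ofFinite (P : Subgroup X)
    rw [Nat.card_eq_fintype_card, Fintype.card_subtype_compl, Fintype.card_subtype_eq,
      ← Nat.card_eq_fintype_card, h.card P]
    omega
  rw [hS] at hle
  have hord : orderOf (QuotientGroup.mk ⟨y, hy⟩ : N ⧸ C.subgroupOf N) = r := by
    refine ((Nat.dvd_prime h.prime).1 (orderOf_dvd_of_pow_eq_one ?_)).resolve_left fun e => ?_
    · rw [← QuotientGroup.mk_pow, QuotientGroup.eq_one_iff]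
      exact h.auto P y hy
    · exact hyC ((QuotientGroup.eq_one_iff (⟨y, hy⟩ : N)).1 (orderOf_eq_one_iff.1 e))
  have hdvd := hord ▸ orderOf_dvd_natCard (QuotientGroup.mk ⟨y, hy⟩ : N ⧸ C.subgroupOf N)
  exact le_antisymm hle (Nat.le_of_dvd Nat.card_pos hdvd)

/-- The inverted elements of the normaliser form one group of order `r`. -/
theorem inverted_unique (P : Sylow 2 X) {u y y' : X} (hu : orderOf u = 2)
    (huN : u ∉ normalizer ((P : Subgroup X) : Set X))
    (hy : y ∈ normalizer ((P : Subgroup X) : Set X)) (hi : u * y * u⁻¹ = y⁻¹) (hy1 : y ≠ 1)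
    (hy' : y' ∈ normalizer ((P : Subgroup X) : Set X)) (hi' : u * y' * u⁻¹ = y'⁻¹) :
    y' ∈ zpowers y := by
  obtain ⟨hyr, hyC, -⟩ := h.inverted P hu huN hy hi hy1
  obtain ⟨i, hd⟩ := h.mem_zpowers_mul P hy hyC hy' (h.relIndex_eq P hy hyC)
  set d := (y ^ i)⁻¹ * y' with hdef
  have hy'd : y' = y ^ i * d := by rw [hdef, mul_inv_cancel_left]
  have hui : u⁻¹ = u := Involution.inv_of_orderOf hu
  have hw := inverts_pow hi i
  have hudu : u * d * u⁻¹ = y ^ i * d⁻¹ * (y ^ i)⁻¹ := by
    rw [hdef]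
    calc u * ((y ^ i)⁻¹ * y') * u⁻¹ = (u * y ^ i * u⁻¹)⁻¹ * (u * y' * u⁻¹) := by group
      _ = y ^ i * y'⁻¹ := by rw [hw, hi', inv_inv]
      _ = _ := by group
  have hdd : d ∈ dd P (u • P) := by
    refine ⟨hd, mem_centralizer_of_smul ?_⟩
    rw [hui]
    have : u * d * u = u * d * u⁻¹ := by rw [hui]
    rw [this, hudu]
    exact conj_mem_centralizer (pow_mem hy i) (inv_mem hd)
  have hc : u * d * u⁻¹ = d := by rw [(h.commute_dd P hu huN hdd).eq, mul_inv_cancel_right]
  rw [hc] at hudu
  have hne : P ≠ u • P := fun e => huN (Sylow.smul_eq_iff_mem_normalizer.1 e.symm)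
  have hd1 : d = 1 := by
    set w := y ^ i with hwdef
    have hinv : w * d * w⁻¹ = d⁻¹ := by
      have := congrArg (fun z : X => z⁻¹) hudu
      simp [mul_inv_rev, inv_inv, ← mul_assoc] at this
      exact this.symm
    have hsq : Commute (w ^ 2) d := by
      show w ^ 2 * d = d * w ^ 2
      have h2 : w * d⁻¹ * w⁻¹ = d := by rw [← conj_inv, hinv, inv_inv]
      calc w ^ 2 * d = w * (w * d * w⁻¹) * w := by rw [pow_two]; group
        _ = w * d⁻¹ * w := by rw [hinv]
        _ = (w * d⁻¹ * w⁻¹) * w ^ 2 := by rw [pow_two]; group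
        _ = d * w ^ 2 := by rw [h2]
    have hwo : Odd (orderOf w) := by
      refine Odd.of_dvd_nat ?_ (orderOf_pow_dvd i)
      rw [hyr]
      exact h.prime.odd_of_ne_two (by have := h.three; omega)
    obtain ⟨k, hk⟩ := hwo
    have hw2 : w = (w ^ 2) ^ (k + 1) := by
      rw [← pow_mul, show 2 * (k + 1) = orderOf w + 1 by omega, pow_succ, pow_orderOf_eq_one, one_mul]
    have hcw : Commute w d := hw2 ▸ hsq.pow_left _
    rw [hcw.eq, mul_inv_cancel_right] at hinv
    have hodd : Odd (orderOf d) := Odd.of_dvd_nat (h.odd_card_dd hne) (Subgroup.orderOf_dvd_natCard _ hdd)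
    refine orderOf_eq_one_iff.1 (Nat.eq_one_of_dvd_coprimes (hodd.coprime_two_right) dvd_rfl ?_)
    exact orderOf_dvd_of_pow_eq_one (by rw [pow_two]; nth_rewrite 1 [hinv]; exact inv_mul_cancel d)
  rw [hy'd, hd1, mul_one]
  exact pow_mem (mem_zpowers y) i

end Hyp

end Cfsg.Agent.SubConj42
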