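import Cfsg.Agent.SubConj42.Quot

/-!
# The groups with no mixing and trivially intersecting elementary Sylow 2-subgroups
-/

set_option autoImplicit false
set_option linter.style.haveILetI false
set_option linter.unusedSectionVars false

namespace Cfsg.Agent.SubConj42

open Subgroup MulAction
open scoped Pointwise

universe u

variable {X : Type u} [Group X] [Finite X]

theorem concl_of_hyp_aux (n : ℕ) : ∀ (X : Type u) [Group X] [Finite X] (r : ℕ),
    Nat.card X = n → Hyp X r → Concl X r := by
  induction n using Nat.strong_induction_on with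
  | _ n ih =>
    intro X _ _ r hn h
    obtain ⟨P⟩ := (inferInstance : Nonempty (Sylow 2 X))
    set E := closure {v : X | orderOf v = 2} with hE
    have IH : ∀ Y : Subgroup X, Y ≠ ⊤ → Hyp Y r → Concl Y r := by
      intro Y hY hy
      refine ih _ ?_ Y r rfl hy
      rw [← hn]
      exact lt_of_le_of_ne (Subgroup.card_le_card_group Y) fun e => hY (Subgroup.eq_top_of_card_eq Y e)
    by_cases hEtop : E = ⊤
    · exact (h.psl_quot fun hne => h.dd_le_center hEtop IH hne).2.1
    · have hall : ∀ T : Sylow 2 X, (T : Subgroup X) ≤ E := closure_involutions_ge h.elem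
      obtain ⟨R, hR⟩ := h.exists_ne P
      refine h.concl_of_subgroup hall (IH E hEtop (h.subgroup (hall P) fun hle => hR ?_))
      exact (sylow_eq_of_le_normalizer ((hall R).trans hle)).symm

theorem Hyp.concl {r : ℕ} (h : Hyp X r) : Concl X r := concl_of_hyp_aux _ X r rfl h

/-- In a simple group the centraliser of an involution is the Sylow 2-subgroup, and the group is a
linear group in characteristic two. -/
theorem Hyp.of_simple [IsSimpleGroup X] {r : ℕ} (h : Hyp X r) :
    (∀ P : Sylow 2 X, centralizer ((P : Subgroup X) : Set X) = (P : Subgroup X)) ∧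
    ∃ (F : Type) (_ : Field F) (_ : Fintype F), Fintype.card F = r + 1 ∧
      Nonempty (X ≃* Matrix.ProjectiveSpecialLinearGroup (Fin 2) F) := by
  obtain ⟨P⟩ := (inferInstance : Nonempty (Sylow 2 X))
  obtain ⟨t, ht, ht1⟩ := h.exists_ne_one P
  have hZ : center X = ⊥ := by
    refine ((inferInstance : (center X).Normal).eq_bot_or_eq_top).resolve_right fun hc => ?_
    exact ht1 (h.sq_eq_one_center (hc ▸ mem_top t) (h.elem P t ht))
  have hE : closure {v : X | orderOf v = 2} = ⊤ := by
    haveI : (closure {v : X | orderOf v = 2}).Normal :=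
      ⟨fun x hx g => by
        have h1 : (closure {v : X | orderOf v = 2}).map (MulAut.conj g : X ≃* X).toMonoidHom ≤
            closure {v : X | orderOf v = 2} := by
          rw [MonoidHom.map_closure]
          refine closure_mono ?_
          rintro _ ⟨v, hv, rfl⟩
          show orderOf (g * v * g⁻¹) = 2
          rw [Involution.orderOf_conj]
          exact hv
        exact h1 ⟨x, hx, rfl⟩⟩
    refine (this.eq_bot_or_eq_top).resolve_left fun hb => ?_
    have := closure_involutions_ge h.elem P ht
    rw [hb, mem_bot] at this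
    exact ht1 this
  obtain ⟨⟨F, hF, hFF, hcard, ⟨e⟩⟩, -, hC⟩ :=
    h.psl_quot fun hne => h.dd_le_center hE (fun Y _ hy => hy.concl) hne
  refine ⟨fun Q => by rw [hC Q, hZ, sup_bot_eq], F, hF, hFF, hcard, ⟨?_⟩⟩
  exact ((QuotientGroup.quotientBot (G := X)).symm.trans
    (QuotientGroup.quotientMulEquivOfEq hZ.symm)).trans e

end Cfsg.Agent.SubConj42
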