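import Cfsg.Agent.SubConj42.Automiser
import Cfsg.Agent.Lib.LinearGroup.SmallPSL

/-!
# A non-normal elementary abelian Sylow 2-subgroup
-/

set_option autoImplicit false
set_option linter.style.haveILetI false
set_option linter.unusedSectionVars false

namespace Cfsg.Agent.SubConj42

open Subgroup MulAction Cfsg
open scoped Pointwise

variable {G : Type*} [Group G] [Finite G]

/-- The order of the centraliser of the Sylow subgroup. -/
theorem card_centralizer (hE : Elem G) (S : Sylow 2 G) :
    Nat.card (centralizer ((S : Subgroup G) : Set G)) = Nat.card (S : Subgroup G) *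
      Nat.card (pPrimeCore 2 ↥(normalizer ((S : Subgroup G) : Set G))) := by
  haveI := Fact.mk Nat.prime_two
  set N := normalizer ((S : Subgroup G) : Set G) with hN
  set C := centralizer ((S : Subgroup G) : Set G) with hCdef
  set O := pPrimeCore 2 N with hO
  set S' := (S : Subgroup G).subgroupOf N with hS'
  set C' := C.subgroupOf N with hC'
  haveI : S'.Normal := Subgroup.normal_in_normalizer
  haveI : O.Normal := Thompson.sSup_normal fun _ h => h.1
  haveI : C'.Normal := ⟨fun c hc z => conj_mem_centralizer z.2 hc⟩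
  have hScard : Nat.card S' = Nat.card (S : Subgroup G) :=
    Nat.card_congr (Subgroup.subgroupOfEquivOfLe le_normalizer).toEquiv
  have hCcard : Nat.card C' = Nat.card C :=
    Nat.card_congr (Subgroup.subgroupOfEquivOfLe (centralizer_le_normalizer_self S)).toEquiv
  have hcop : (Nat.card S').Coprime (Nat.card O) := by
    obtain ⟨k, hk⟩ := S.2.exists_card_eq
    rw [hScard, hk]
    exact Nat.Coprime.pow_left k Thompson.card_pPrimeCore_coprime.symm
  have hOC : O ≤ C' := by
    intro w hw
    rw [hC', Subgroup.mem_subgroupOf, hCdef, Subgroup.mem_centralizer_iff]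
    intro s hs
    have hdis : Disjoint S' O := Subgroup.disjoint_of_coprime_natCard hcop
    exact congrArg Subtype.val (Subgroup.commute_of_normal_of_disjoint S' O inferInstance inferInstance
      hdis (⟨s, le_normalizer hs⟩ : N) w hs hw).eq
  have hSC : S' ≤ C' := fun s hs => le_centralizer_self hE S hs
  rw [← hCcard, ← hScard]
  refine Nat.dvd_antisymm ?_ (hcop.mul_dvd_of_dvd_of_dvd (Subgroup.card_dvd_of_le hSC)
    (Subgroup.card_dvd_of_le hOC))
  -- the complement in the centraliser
  let SC : Sylow 2 C' := Sylow.ofCard (S'.subgroupOf C') (by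
    rw [Nat.card_congr (Subgroup.subgroupOfEquivOfLe hSC).toEquiv, hScard, S.card_eq_multiplicity]
    refine congrArg _ (le_antisymm ?_ ?_)
    · have h1 : Nat.card (S : Subgroup G) ∣ Nat.card C' := hScard ▸ Subgroup.card_dvd_of_le hSC
      rw [S.card_eq_multiplicity] at h1
      exact (Nat.prime_two.pow_dvd_iff_le_factorization Nat.card_pos.ne').1 h1
    · refine (Nat.factorization_le_iff_dvd Nat.card_pos.ne' Nat.card_pos.ne').2 ?_ 2
      rw [hCcard]
      exact Subgroup.card_subgroup_dvd_card C)
  have hP : normalizer ((SC : Subgroup C') : Set C') ≤ centralizer ((SC : Subgroup C') : Set C') :=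
    fun c _ => Subgroup.mem_centralizer_iff.2 fun s hs =>
      Subtype.ext (Subtype.ext (Subgroup.mem_centralizer_iff.1 c.2 (((s : N)) : G) hs))
  have hcomp := MonoidHom.ker_transferSylow_isComplement' SC hP
  set K := (MonoidHom.transferSylow SC hP).ker
  have hK : K ≤ pPrimeCore 2 C' := Thompson.le_pPrimeCore (MonoidHom.normal_ker _)
    (Nat.coprime_comm.1 (Nat.prime_two.coprime_iff_not_dvd.2
      (MonoidHom.not_dvd_card_ker_transferSylow SC hP)))
  have hKO : K.map C'.subtype ≤ O :=
    (Subgroup.map_mono hK).trans (Thompson.map_pPrimeCore_normal_le (p := 2) C')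
  rw [← hcomp.card_mul_card]
  have e1 : Nat.card (SC : Subgroup C') = Nat.card S' :=
    Nat.card_congr (Subgroup.subgroupOfEquivOfLe hSC).toEquiv
  rw [e1, mul_comm]
  refine mul_dvd_mul_left _ ?_
  rw [← Subgroup.card_map_of_injective C'.subtype_injective]
  exact Subgroup.card_dvd_of_le hKO

/-- The order of the automiser from the normaliser modulo its odd core. -/
theorem card_range_of_equiv (hE : Elem G) (S : Sylow 2 G) {H : Type*} [Group H]
    (h : Nonempty (↥(normalizer ((S : Subgroup G) : Set G)) ⧸
      pPrimeCore 2 ↥(normalizer ((S : Subgroup G) : Set G)) ≃* H)) :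
    Nat.card (S : Subgroup G).normalizerMonoidHom.range * Nat.card (S : Subgroup G) = Nat.card H := by
  obtain ⟨e⟩ := h
  refine Nat.eq_of_mul_eq_mul_right
    (Nat.card_pos (α := pPrimeCore 2 ↥(normalizer ((S : Subgroup G) : Set G)))) ?_
  rw [mul_assoc, ← card_centralizer hE S, card_range_mul S, ← Nat.card_congr e.toEquiv]
  exact Subgroup.card_eq_card_quotient_mul_card_subgroup _

theorem odd_range (hE : Elem G) (S : Sylow 2 G) :
    Odd (Nat.card (S : Subgroup G).normalizerMonoidHom.range) := by
  haveI := Fact.mk Nat.prime_two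
  have h1 := card_range_mul S
  rw [card_centralizer hE S] at h1
  rw [← Nat.not_even_iff_odd, even_iff_two_dvd]
  intro hd
  obtain ⟨k, hk⟩ := hd
  refine S.not_dvd_index ?_
  refine dvd_trans ?_ (Dvd.intro _ (Subgroup.relIndex_mul_index (le_normalizer (H := (S : Subgroup G)))))
  have h2 : Nat.card ((S : Subgroup G).subgroupOf (normalizer ((S : Subgroup G) : Set G))) *
      ((S : Subgroup G).subgroupOf (normalizer ((S : Subgroup G) : Set G))).index =
      Nat.card (normalizer ((S : Subgroup G) : Set G)) := Subgroup.card_mul_index _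
  rw [Nat.card_congr (Subgroup.subgroupOfEquivOfLe (le_normalizer (H := (S : Subgroup G)))).toEquiv,
    ← h1, hk] at h2
  refine ⟨k * Nat.card (pPrimeCore 2 ↥(normalizer ((S : Subgroup G) : Set G))), ?_⟩
  refine Nat.eq_of_mul_eq_mul_left (Nat.card_pos (α := (S : Subgroup G))) ?_
  show Nat.card (S : Subgroup G) * (S : Subgroup G).relIndex _ = _
  rw [Subgroup.relIndex, h2]
  ring

theorem card_range_four (hE : Elem G) (S : Sylow 2 G) (hcard : Nat.card (S : Subgroup G) = 2 ^ 2) :
    Nat.card (S : Subgroup G).normalizerMonoidHom.range ∣ 3 := by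
  classical
  set T := {s : (S : Subgroup G) // s ≠ 1} with hT
  have hT3 : Nat.card T = 3 := by
    haveI := Fintype.ofFinite (S : Subgroup G)
    rw [Nat.card_eq_fintype_card, Fintype.card_subtype_compl, Fintype.card_subtype_eq,
      ← Nat.card_eq_fintype_card, hcard]
    norm_num
  let f : MulAut (S : Subgroup G) →* Equiv.Perm T :=
    { toFun := fun e =>
        { toFun := fun s => ⟨e s.1, fun h => s.2 (e.injective (h.trans (map_one e).symm))⟩
          invFun := fun s => ⟨e.symm s.1, fun h => s.2 (e.symm.injective (h.trans (map_one e.symm).symm))⟩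
          left_inv := fun s => Subtype.ext (e.symm_apply_apply _)
          right_inv := fun s => Subtype.ext (e.apply_symm_apply _) }
      map_one' := Equiv.ext fun s => rfl
      map_mul' := fun a b => Equiv.ext fun s => rfl }
  have hf : Function.Injective f := by
    intro a b hab
    refine MulEquiv.ext fun s => ?_
    by_cases hs : s = 1
    · rw [hs, map_one, map_one]
    · exact congrArg Subtype.val (Equiv.congr_fun hab ⟨s, hs⟩)
  have h6 : Nat.card (S : Subgroup G).normalizerMonoidHom.range ∣ 6 := by
    refine (Subgroup.card_subgroup_dvd_card _).trans ((card_dvd_of_injective f hf).trans ?_)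
    rw [Nat.card_perm, hT3]
    rfl
  obtain ⟨k, hk⟩ := odd_range hE S
  have hle := Nat.le_of_dvd (by norm_num) h6
  rw [hk] at h6 hle ⊢
  have hk3 : k < 3 := by omega
  interval_cases k <;> simp_all

/-- The involution-generated subgroup satisfies the hypotheses of the recognition. -/
theorem hyp_invClosure (hC : ConjSub G) (hE : Elem G) (S : Sylow 2 G)
    (hS : ¬ (S : Subgroup G).Normal) {r : ℕ} (hr : r.Prime) (h3 : 3 ≤ r)
    (hcard : Nat.card (S : Subgroup G) = r + 1) (hA : Nat.card (autM S) = r) :
    Hyp (invClosure G) r := by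
  haveI := Fact.mk Nat.prime_two
  have hT : ∀ R : Sylow 2 (invClosure G), ∃ T : Sylow 2 G,
      (T : Subgroup G) = (R : Subgroup (invClosure G)).map (invClosure G).subtype := by
    intro R
    refine ⟨Sylow.ofCard ((R : Subgroup (invClosure G)).map (invClosure G).subtype) ?_, rfl⟩
    rw [Subgroup.card_map_of_injective (invClosure G).subtype_injective, R.card_eq_multiplicity,
      ← (S.subtype (le_invClosure hE S)).card_eq_multiplicity, Sylow.coe_subtype,
      Nat.card_congr (Subgroup.subgroupOfEquivOfLe (le_invClosure hE S)).toEquiv,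
      S.card_eq_multiplicity]
  have hcR : ∀ R : Sylow 2 (invClosure G), Nat.card (R : Subgroup (invClosure G)) = r + 1 := by
    intro R
    rw [R.card_eq_multiplicity, ← (S.subtype (le_invClosure hE S)).card_eq_multiplicity,
      Sylow.coe_subtype, Nat.card_congr (Subgroup.subgroupOfEquivOfLe (le_invClosure hE S)).toEquiv,
      hcard]
  refine ⟨hC.noMix.subgroup _, fun R x hx => ?_, hr, h3, hcR, fun R hR => ?_, fun R g hg => ?_⟩
  · obtain ⟨T, hT'⟩ := hT R
    exact Subtype.ext (hE T (x : G) (hT' ▸ ⟨x, hx, rfl⟩))
  · haveI := Sylow.unique_of_normal R hR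
    haveI := hR
    have hsub : (S.subtype (le_invClosure hE S) : Sylow 2 (invClosure G)) = R := Subsingleton.elim _ _
    refine hS ⟨fun s hs g => ?_⟩
    have hSg : ((g • S : Sylow 2 G) : Subgroup G) ≤ invClosure G := le_invClosure hE _
    have he : ((g • S).subtype hSg : Sylow 2 (invClosure G)) = S.subtype (le_invClosure hE S) :=
      Subsingleton.elim _ _
    have := Sylow.subtype_injective he
    rw [← this, Sylow.coe_subgroup_smul]
    exact ⟨s, hs, rfl⟩
  · obtain ⟨a, rfl⟩ := MulAction.exists_smul_eq (invClosure G) (S.subtype (le_invClosure hE S)) R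
    set S' := S.subtype (le_invClosure hE S) with hS'
    have hb : a⁻¹ * g * a ∈ normalizer ((S' : Subgroup (invClosure G)) : Set (invClosure G)) := by
      refine Sylow.smul_eq_iff_mem_normalizer.1 ?_
      rw [mul_smul, mul_smul, Sylow.smul_eq_iff_mem_normalizer.2 hg, inv_smul_smul]
    set b := a⁻¹ * g * a with hbdef
    have hbN : (b : G) ∈ normalizer ((S : Subgroup G) : Set G) := by
      rw [Subgroup.mem_normalizer_iff]
      intro z
      constructor
      · intro hz
        exact (Subgroup.mem_normalizer_iff.1 hb ⟨z, le_invClosure hE S hz⟩).1 hz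
      · intro hz
        have hzM : z ∈ invClosure G := by
          have h2 := mul_mem (mul_mem (inv_mem b.2) (le_invClosure hE S hz)) b.2
          rwa [show (b : G)⁻¹ * ((b : G) * z * (b : G)⁻¹) * b = z by group] at h2
        exact (Subgroup.mem_normalizer_iff.1 hb ⟨z, hzM⟩).2 hz
    have h1 : ((S : Subgroup G).normalizerMonoidHom ⟨b, hbN⟩) ^ r = 1 := by
      have hmem : (S : Subgroup G).normalizerMonoidHom ⟨b, hbN⟩ ∈ autM S := ⟨_, b.2, rfl⟩
      have := pow_card_eq_one' (G := autM S) (x := ⟨_, hmem⟩)
      rw [hA] at this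
      exact congrArg Subtype.val this
    rw [← map_pow] at h1
    have h2 : (b : G) ^ r ∈ centralizer ((S : Subgroup G) : Set G) :=
      (normalizerMonoidHom_eq_one_iff S (pow_mem hbN r)).1 h1
    refine mem_centralizer_of_smul ?_
    rw [show a⁻¹ * g ^ r * a = b ^ r by
      have := conj_pow (a := a⁻¹) (b := g) (i := r)
      rw [inv_inv] at this
      exact this.symm]
    rw [Subgroup.mem_centralizer_iff]
    intro s hs
    refine Subtype.ext ?_
    push_cast
    exact Subgroup.mem_centralizer_iff.1 h2 (s : G) hs

/-- The structure of the group. -/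
structure Shape (G : Type*) [Group G] (q : ℕ) (c : ℕ) : Prop where
  psl : ∃ (F : Type) (_ : Field F) (_ : Fintype F), Fintype.card F = q ∧
    Nonempty (invClosure G ≃* Matrix.ProjectiveSpecialLinearGroup (Fin 2) F)
  card : Nat.card G = (q + 1) * (c * q)
  card_sub : Nat.card (invClosure G) = (q + 1) * ((q - 1) * q)
  faithful : Function.Injective (MulAut.conjNormal : G →* MulAut (invClosure G))
  real : ∀ l : ℕ, l.Prime → l ∣ q + 1 →
    ∃ u x : G, orderOf u = 2 ∧ orderOf x = l ∧ u * x * u⁻¹ = x⁻¹

theorem shape (hC : ConjSub G) (hfree : OFree G) (hE : Elem G) (S : Sylow 2 G)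
    (hS : ¬ (S : Subgroup G).Normal) {r : ℕ} (hr : r.Prime) (h3 : 3 ≤ r)
    (hcard : Nat.card (S : Subgroup G) = r + 1) (hA : Nat.card (autM S) = r) :
    Shape G (r + 1) (Nat.card (S : Subgroup G).normalizerMonoidHom.range) := by
  haveI := Fact.mk Nat.prime_two
  classical
  have hH := hyp_invClosure hC hE S hS hr h3 hcard hA
  set M := invClosure G with hM
  have hZM : center M = ⊥ := (hfree.of_normal M) _ inferInstance hH.odd_card_center
  have hEM : closure {v : M | orderOf v = 2} = ⊤ := by
    refine Subgroup.map_injective M.subtype_injective ?_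
    rw [MonoidHom.map_closure, ← MonoidHom.range_eq_map, Subgroup.range_subtype]
    show Subgroup.closure _ = Subgroup.closure {v : G | orderOf v = 2}
    congr 1
    ext v
    constructor
    · rintro ⟨w, hw, rfl⟩
      show orderOf (w : G) = 2
      rw [Subgroup.orderOf_coe]; exact hw
    · intro hv
      exact ⟨⟨v, subset_closure hv⟩, show orderOf _ = 2 by rw [← Subgroup.orderOf_coe]; exact hv, rfl⟩
  obtain ⟨⟨F, hF, hFF, hFc, ⟨e⟩⟩, ⟨hcount, hreal⟩, hCP⟩ :=
    hH.psl_quot fun hne => hH.dd_le_center hEM (fun Y _ hy => hy.concl) hne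
  set S₀ := S.subtype (le_invClosure hE S) with hS₀
  -- Sylow subgroups of `G` and of `M`
  have hcountG : Nat.card (Sylow 2 G) = r + 2 := by
    rw [← hcount]
    refine Nat.card_congr (Equiv.ofBijective (fun T : Sylow 2 G => T.subtype (le_invClosure hE T))
      ⟨fun T T' he => Sylow.subtype_injective he, fun R => ?_⟩)
    obtain ⟨a, rfl⟩ := MulAction.exists_smul_eq M S₀ R
    exact ⟨(a : G) • S, (Sylow.smul_subtype _ a).symm⟩
  set C := centralizer ((S : Subgroup G) : Set G) with hCdef
  obtain ⟨R, hR⟩ : ∃ R : Sylow 2 G, R ≠ S := by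
    haveI : Nontrivial (Sylow 2 G) :=
      Finite.one_lt_card_iff_nontrivial.1 (by rw [hcountG]; omega)
    exact exists_ne S
  -- odd elements centralising `S` fix every Sylow subgroup
  let f : ↥(S : Subgroup G) → {T : Sylow 2 G // T ≠ S} := fun s => ⟨(s : G) • R, fun he => hR (by
    rw [← inv_smul_smul (s : G) R, he, Sylow.smul_eq_iff_mem_normalizer]
    exact inv_mem (le_normalizer s.2))⟩
  have hfix : ∀ s : G, s ∈ (S : Subgroup G) → s • R = R → s = 1 := by
    intro s hs he
    by_contra hs1
    exact hR ((hC.noMix.sylow_eq hE hs (two_mem_sylow_of_mem_normalizer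
      (Sylow.smul_eq_iff_mem_normalizer.1 he) (hE.orderOf_eq hs hs1)) hs1)).symm
  have hfinj : Function.Injective f := by
    intro a b hab
    have h1 : (a : G) • R = (b : G) • R := congrArg Subtype.val hab
    have h2 := hfix _ (mul_mem (inv_mem b.2) a.2) (by rw [mul_smul, h1, inv_smul_smul])
    exact Subtype.ext (inv_mul_eq_one.1 h2).symm
  haveI := Fintype.ofFinite (Sylow 2 G)
  have hfbij : Function.Bijective f := (Nat.bijective_iff_injective_and_card f).2 ⟨hfinj, by
    rw [Nat.card_eq_fintype_card (α := {T : Sylow 2 G // T ≠ S}), Fintype.card_subtype_compl,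
      Fintype.card_subtype_eq, ← Nat.card_eq_fintype_card, hcountG, hcard]
    omega⟩
  have hCS : C = (S : Subgroup G) := by
    refine (S.3 (fun ⟨d, hd⟩ => ?_) (le_centralizer_self hE S))
    obtain ⟨a, m, hm, hord⟩ := Nat.exists_eq_two_pow_mul_odd (orderOf_pos d).ne'
    refine ⟨a, Subtype.ext ?_⟩
    show d ^ 2 ^ a = 1
    set d' := d ^ 2 ^ a with hd'
    have hd'C : d' ∈ C := pow_mem hd _
    have hd'o : Odd (orderOf d') := by
      rw [hd', orderOf_pow' _ (by positivity), hord, Nat.gcd_eq_right (dvd_mul_right _ _),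
        Nat.mul_div_cancel_left _ (by positivity)]
      exact hm
    have hall : ∀ T : Sylow 2 G, d' • T = T := by
      intro T
      have hdS : d' • S = S :=
        Sylow.smul_eq_iff_mem_normalizer.2 (centralizer_le_normalizer_self S hd'C)
      have hcomm : ∀ s ∈ (S : Subgroup G), Commute d' s := fun s hs =>
        (Subgroup.mem_centralizer_iff.1 hd'C s hs).symm
      have hdR : d' • R = R := by
        obtain ⟨s, hs⟩ := hfbij.2 ⟨d' • R, fun he => hR (smul_left_cancel d' (he.trans hdS.symm))⟩
        have h1 : (s : G) • R = d' • R := congrArg Subtype.val hs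
        have h2 : ((s : G)⁻¹ * d') • R = R := by rw [mul_smul, ← h1, inv_smul_smul]
        obtain ⟨j, hj⟩ := hd'o
        have h3 : ((s : G)⁻¹ * d') ^ orderOf d' = (s : G) := by
          rw [((hcomm _ s.2).symm.inv_left).mul_pow, pow_orderOf_eq_one, mul_one, hj, pow_succ,
            pow_mul, pow_two, ← mul_inv_rev, hE S _ s.2, inv_one, one_pow, one_mul]
          exact inv_eq_of_mul_eq_one_right (hE S _ s.2)
        have h4 : ((s : G)⁻¹ * d') ^ orderOf d' • R = R :=
          Sylow.smul_eq_iff_mem_normalizer.2 (pow_mem (Sylow.smul_eq_iff_mem_normalizer.1 h2) _)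
        rw [h3] at h4
        rw [← h1, h4]
      by_cases hT : T = S
      · rw [hT]; exact hdS
      obtain ⟨s, hs⟩ := hfbij.2 ⟨T, hT⟩
      have h1 : (s : G) • R = T := congrArg Subtype.val hs
      rw [← h1, ← mul_smul, (hcomm _ s.2).eq, mul_smul, hdR]
    have hK := hfree (MulAction.toPermHom G (Sylow 2 G)).ker inferInstance (by
      rw [← Nat.not_even_iff_odd]
      intro he
      obtain ⟨w, hw⟩ := exists_prime_orderOf_dvd_card'
        (G := (MulAction.toPermHom G (Sylow 2 G)).ker) 2 (even_iff_two_dvd.1 he)
      have hwo : orderOf (w : G) = 2 := by rw [Subgroup.orderOf_coe, hw]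
      have hmem : ∀ T : Sylow 2 G, (w : G) ∈ (T : Subgroup G) := fun T =>
        two_mem_sylow_of_mem_normalizer
          (Sylow.smul_eq_iff_mem_normalizer.1 (Equiv.congr_fun (MonoidHom.mem_ker.1 w.2) T)) hwo
      exact hR (hC.noMix.sylow_eq hE (hmem R) (hmem S) (Involution.ne_one_of_orderOf hwo)))
    have : d' ∈ (MulAction.toPermHom G (Sylow 2 G)).ker :=
      MonoidHom.mem_ker.2 (Equiv.ext hall)
    rwa [hK, mem_bot] at this
  -- orders
  have hcardN := card_range_mul S
  rw [← hCdef, hCS, hcard] at hcardN
  have hidx : (normalizer ((S : Subgroup G) : Set G)).index = r + 2 := by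
    rw [← hcountG]; exact S.card_eq_index_normalizer.symm
  have hG : Nat.card G = (r + 1 + 1) * (Nat.card (S : Subgroup G).normalizerMonoidHom.range * (r + 1)) := by
    rw [← (normalizer ((S : Subgroup G) : Set G)).card_mul_index, hidx, ← hcardN]
    ring
  have hMcard : Nat.card M = (r + 1 + 1) * ((r + 1 - 1) * (r + 1)) := by
    have h1 := (normalizer ((S₀ : Subgroup M) : Set M)).card_mul_index
    rw [show (normalizer ((S₀ : Subgroup M) : Set M)).index = r + 2 from
      hcount ▸ S₀.card_eq_index_normalizer.symm] at h1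
    rw [← h1, Nat.add_sub_cancel]
    have h2 : Nat.card (normalizer ((S₀ : Subgroup M) : Set M)) = r * (r + 1) := by
      rw [← Subgroup.card_mul_index ((centralizer ((S₀ : Subgroup M) : Set M)).subgroupOf
        (normalizer ((S₀ : Subgroup M) : Set M))), ← Subgroup.relIndex, hH.relIndex_sylow S₀,
        Nat.card_congr (Subgroup.subgroupOfEquivOfLe (centralizer_le_normalizer_self S₀)).toEquiv,
        hCP S₀, hZM, sup_bot_eq, hH.card S₀, mul_comm]
    rw [h2]
    ring
  refine ⟨⟨F, hF, hFF, hFc, ⟨?_⟩⟩, hG, hMcard, ?_, fun l hl hd => ?_⟩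
  · exact ((QuotientGroup.quotientBot (G := M)).symm.trans
      (QuotientGroup.quotientMulEquivOfEq hZM.symm)).trans e
  · rw [← MonoidHom.ker_eq_bot_iff]
    set K := (MulAut.conjNormal : G →* MulAut M).ker with hKdef
    have hKC : K ≤ C := by
      intro g hg
      rw [hCdef, Subgroup.mem_centralizer_iff]
      intro s hs
      have := congrArg Subtype.val
        (MulEquiv.congr_fun (MonoidHom.mem_ker.1 hg) (⟨s, le_invClosure hE S hs⟩ : M))
      rw [MulAut.conjNormal_apply] at this
      change g * s * g⁻¹ = s at this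
      exact (mul_inv_eq_iff_eq_mul.1 this).symm
    refine (Subgroup.eq_bot_iff_forall _).2 fun g hg => ?_
    by_contra hg1
    have hgS : g ∈ (S : Subgroup G) := hCS ▸ hKC hg
    obtain ⟨a, ha⟩ := MulAction.exists_smul_eq G S R
    have hgR : g ∈ (R : Subgroup G) := by
      rw [← ha, Sylow.coe_subgroup_smul]
      refine ⟨a⁻¹ * g * a, hCS ▸ hKC (by
        have := (inferInstance : K.Normal).conj_mem g hg a⁻¹
        rwa [inv_inv] at this), ?_⟩
      show a * (a⁻¹ * g * a) * a⁻¹ = g
      group
    exact hR (hC.noMix.sylow_eq hE hgR hgS hg1)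
  · obtain ⟨u, x, hu, hx, hi⟩ := hreal l hl hd
    exact ⟨u, x, by rw [Subgroup.orderOf_coe, hu], by rw [Subgroup.orderOf_coe, hx],
      congrArg Subtype.val hi⟩

/-- The non-normal case. -/
theorem nonnormal_case (hC : ConjSub G) (hfree : OFree G) (hE : Elem G) (S : Sylow 2 G)
    (hS : ¬ (S : Subgroup G).Normal) {n : ℕ} (hn : 2 ≤ n)
    (hcard : Nat.card (S : Subgroup G) = 2 ^ n) :
    (n = 2 ∧ Nonempty (G ≃* alternatingGroup (Fin 5))) ∨
      (3 ≤ n ∧ Nonempty (G ≃* Matrix.ProjectiveSpecialLinearGroup (Fin 2) (GaloisField 2 3))) ∨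
      (3 ≤ n ∧ Nonempty (G ≃* MulAut (Matrix.ProjectiveSpecialLinearGroup (Fin 2) (GaloisField 2 5)))) := by
  haveI := Fact.mk Nat.prime_two
  have hne : Nat.card (autM S) ≠ 1 := fun h =>
    autM_ne_bot hfree hE S hS (Subgroup.card_eq_one.1 h)
  have hdvd := Subgroup.card_dvd_of_le (autM_le S)
  have whole : ∀ {q c : ℕ}, Shape G q c → c = q - 1 → invClosure G = ⊤ := fun {q c} h hc =>
    Subgroup.eq_top_of_card_eq _ (by rw [h.card, h.card_sub, hc])
  rcases Nat.lt_or_ge n 3 with hn3 | hn3
  · -- order four
    obtain rfl : n = 2 := by omega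
    left
    have h3 : Nat.card (autM S) = 3 :=
      ((Nat.dvd_prime Nat.prime_three).1 (hdvd.trans (card_range_four hE S hcard))).resolve_left hne
    have hc : Nat.card (S : Subgroup G).normalizerMonoidHom.range = 3 :=
      Nat.dvd_antisymm (card_range_four hE S hcard) (h3 ▸ hdvd)
    have hsh := shape hC hfree hE S hS Nat.prime_three le_rfl (by rw [hcard]; rfl) h3
    obtain ⟨F, hF, hFF, hFc, ⟨e⟩⟩ := hsh.psl
    have htop := whole hsh (by rw [hc])
    have hF4 : Nat.card F = 4 := by rw [Nat.card_eq_fintype_card, hFc]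
    obtain ⟨e2⟩ := LinearGroup.psl_two_small (F := F) (Or.inr hF4)
    rw [hF4] at e2
    exact ⟨rfl, ⟨((Subgroup.topEquiv.symm.trans (MulEquiv.subgroupCongr htop.symm)).trans e).trans e2⟩⟩
  right
  rcases normalizer_quotient hC hE S hn3 hcard with ⟨rfl, hq⟩ | ⟨rfl, hq⟩
  · -- order eight
    left
    have hc : Nat.card (S : Subgroup G).normalizerMonoidHom.range = 21 ∨
        Nat.card (S : Subgroup G).normalizerMonoidHom.range = 7 := by
      rcases hq with h | h
      · have := card_range_of_equiv hE S h
        rw [card_semiaffine (by norm_num), hcard] at this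
        generalize Nat.card ↥((S : Subgroup G).normalizerMonoidHom.range) = c at this ⊢
        norm_num at this
        omega
      · have := card_range_of_equiv hE S h
        rw [card_affine (by norm_num), hcard] at this
        generalize Nat.card ↥((S : Subgroup G).normalizerMonoidHom.range) = c at this ⊢
        norm_num at this
        omega
    have hnot : ¬ 3 ∣ Nat.card (autM S) := by
      refine not_dvd_autM hC hE S Nat.prime_three (by norm_num) (by norm_num) hcard ?_ (by norm_num) ?_
      · intro a h2 h3
        interval_cases a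
        norm_num
      · rcases hc with h | h <;> rw [h] <;> norm_num
    have h7 : Nat.card (autM S) = 7 := by
      have h21 : Nat.card (autM S) ∣ 21 := by
        rcases hc with h | h
        · exact h ▸ hdvd
        · exact (h ▸ hdvd).trans (by norm_num)
      have hle := Nat.le_of_dvd (by norm_num) h21
      interval_cases h : Nat.card (autM S) <;> omega
    have hsh := shape hC hfree hE S hS (r := 7) (by norm_num) (by norm_num) (by rw [hcard]; rfl) h7
    have hc7 : Nat.card (S : Subgroup G).normalizerMonoidHom.range = 7 := by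
      refine hc.resolve_left fun h21 => ?_
      obtain ⟨u, y, hu, hy, hi⟩ := hsh.real 3 Nat.prime_three (by norm_num)
      haveI := Fact.mk Nat.prime_three
      obtain ⟨x, hx⟩ := exists_prime_orderOf_dvd_card'
        (G := normalizer ((S : Subgroup G) : Set G)) 3 (by
          rw [← card_range_mul S, h21]; exact Dvd.dvd.mul_right (by norm_num) _)
      obtain ⟨t, -, ht, htx⟩ := exists_fixed hE S Nat.prime_three (by rw [hcard]; norm_num) x.2
        (IsPGroup.of_card (n := 1) (by rw [Nat.card_zpowers, Subgroup.orderOf_coe, hx, pow_one]))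
      exact hC.noMix 3 Nat.prime_three (by norm_num) (x : G) y t u
        (by rw [Subgroup.orderOf_coe, hx]) hy ht hu htx hi
    obtain ⟨F, hF, hFF, hFc, ⟨e⟩⟩ := hsh.psl
    have htop := whole hsh (by rw [hc7])
    haveI := Fintype.ofFinite (GaloisField 2 3)
    obtain ⟨σ⟩ : Nonempty (F ≃+* GaloisField 2 3) := ⟨FiniteField.ringEquivOfCardEq (by
      rw [hFc, ← Nat.card_eq_fintype_card (α := GaloisField 2 3), GaloisField.card 2 3 (by norm_num)]
      norm_num)⟩
    exact ⟨le_rfl, ⟨((Subgroup.topEquiv.symm.trans (MulEquiv.subgroupCongr htop.symm)).trans e).trans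
      (LinearGroup.pslCongr σ)⟩⟩
  · -- order thirty-two
    right
    have hc : Nat.card (S : Subgroup G).normalizerMonoidHom.range = 155 := by
      have := card_range_of_equiv hE S hq
      rw [card_semiaffine (by norm_num), hcard] at this
      generalize Nat.card ↥((S : Subgroup G).normalizerMonoidHom.range) = c at this ⊢
      norm_num at this
      omega
    have hnot : ¬ 5 ∣ Nat.card (autM S) := by
      refine not_dvd_autM hC hE S (by norm_num) (by norm_num) (by norm_num) hcard ?_ (by norm_num) ?_
      · intro a h2 h3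
        interval_cases a <;> norm_num
      · rw [hc]; norm_num
    have h31 : Nat.card (autM S) = 31 := by
      rw [hc] at hdvd
      have hcop : (Nat.card (autM S)).Coprime 5 :=
        ((show Nat.Prime 5 by norm_num).coprime_iff_not_dvd.2 hnot).symm
      have := hcop.dvd_of_dvd_mul_left (show Nat.card (autM S) ∣ 5 * 31 by simpa using hdvd)
      exact ((Nat.dvd_prime (by norm_num)).1 this).resolve_left hne
    have hsh := shape hC hfree hE S hS (r := 31) (by norm_num) (by norm_num) (by rw [hcard]; rfl) h31
    obtain ⟨F, hF, hFF, hFc, ⟨e⟩⟩ := hsh.psl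
    haveI := Fintype.ofFinite (GaloisField 2 5)
    obtain ⟨σ⟩ : Nonempty (F ≃+* GaloisField 2 5) := ⟨FiniteField.ringEquivOfCardEq (by
      rw [hFc, ← Nat.card_eq_fintype_card (α := GaloisField 2 5), GaloisField.card 2 5 (by norm_num)]
      norm_num)⟩
    set H := Matrix.ProjectiveSpecialLinearGroup (Fin 2) (GaloisField 2 5) with hH
    set e' : invClosure G ≃* H := e.trans (LinearGroup.pslCongr σ)
    let Φ : G →* MulAut H :=
      (MulAut.congr e').toMonoidHom.comp (MulAut.conjNormal : G →* MulAut (invClosure G))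
    have hΦ : Function.Injective Φ := (MulAut.congr e').injective.comp hsh.faithful
    have hH1 : Nat.card H = 32736 := by
      rw [← Nat.card_congr e'.toEquiv, hsh.card_sub]
    haveI : Finite H := Finite.of_equiv _ e'.toEquiv
    haveI : Finite (MulAut H) :=
      Finite.of_injective (fun f : MulAut H => (f : H → H)) DFunLike.coe_injective
    have hcen : Subgroup.center H = ⊥ := by
      have hZ : center (invClosure G) = ⊥ := (hfree.of_normal _) _ inferInstance
        (hyp_invClosure hC hE S hS (r := 31) (by norm_num) (by norm_num) (by rw [hcard]; rfl)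
          h31).odd_card_center
      refine (Subgroup.eq_bot_iff_forall _).2 fun z hz => ?_
      have hz' : e'.symm z ∈ center (invClosure G) := Subgroup.mem_center_iff.2 fun w => by
        apply e'.injective
        simpa using Subgroup.mem_center_iff.1 hz (e' w)
      rw [hZ, mem_bot] at hz'
      simpa using congrArg e' hz'
    have hinn : Nat.card (MulAut.conj : H →* MulAut H).range = 32736 := by
      rw [← hH1]
      refine (Nat.card_congr (MonoidHom.ofInjective (f := (MulAut.conj : H →* MulAut H)) ?_).toEquiv).symm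
      rw [← MonoidHom.ker_eq_bot_iff, ← hcen]
      ext z
      rw [MonoidHom.mem_ker, Subgroup.mem_center_iff]
      constructor
      · intro hz w
        have := MulEquiv.congr_fun hz w
        rw [MulAut.conj_apply] at this
        exact (mul_inv_eq_iff_eq_mul.1 this).symm
      · intro hz
        refine MulEquiv.ext fun w => ?_
        rw [MulAut.conj_apply, ← hz w, mul_inv_cancel_right]
        rfl
    have hcardA : Nat.card (MulAut H) = Nat.card G := by
      rw [card_mulAut_psl (F := GaloisField 2 5) (f := 5) (by norm_num)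
        (by rw [← Nat.card_eq_fintype_card, GaloisField.card 2 5 (by norm_num)]), hinn, hsh.card, hc]
    exact ⟨by norm_num, ⟨MulEquiv.ofBijective Φ
      ((Nat.bijective_iff_injective_and_card Φ).2 ⟨hΦ, hcardA.symm⟩)⟩⟩

end Cfsg.Agent.SubConj42
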