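import Cfsg.Agent.SubConj42.Center
import Cfsg.Agent.SubConj42.SL2
import Cfsg.Agent.CharDeep.CC.Main

/-!
# The quotient by the centre when the two-point stabilisers are central
-/

set_option autoImplicit false
set_option linter.style.haveILetI false
set_option linter.unusedSectionVars false

namespace Cfsg.Agent.SubConj42

open Subgroup MulAction
open scoped Pointwise

open CharDeep.CA (cent nrm mem_cent)

variable {X : Type*} [Group X] [Finite X]

namespace Hyp

variable {r : ℕ} (h : Hyp X r)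
include h

theorem odd_card_center : Odd (Nat.card (center X)) := by
  obtain ⟨P⟩ := (inferInstance : Nonempty (Sylow 2 X))
  obtain ⟨R, hR⟩ := h.exists_ne P
  refine Odd.of_dvd_nat (h.odd_card_dd hR.symm) (Subgroup.card_dvd_of_le fun z hz => ?_)
  exact ⟨Subgroup.mem_centralizer_iff.2 fun s _ => Subgroup.mem_center_iff.1 hz s,
    Subgroup.mem_centralizer_iff.2 fun s _ => Subgroup.mem_center_iff.1 hz s⟩

theorem center_le_centralizer (P : Sylow 2 X) :
    center X ≤ centralizer ((P : Subgroup X) : Set X) := fun _ hz =>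
  Subgroup.mem_centralizer_iff.2 fun s _ => Subgroup.mem_center_iff.1 hz s

theorem sq_eq_one_center {z : X} (hz : z ∈ center X) (h2 : z * z = 1) : z = 1 :=
  orderOf_eq_one_iff.1 (Nat.eq_one_of_dvd_coprimes (h.odd_card_center.coprime_two_right)
    (Subgroup.orderOf_dvd_natCard _ hz) (orderOf_dvd_of_pow_eq_one (by rw [pow_two]; exact h2)))

/-- An element of `C(P)` whose coset modulo the centre is fixed by an element outside it is
central. -/
theorem mem_centralizer_of_commute_mod
    (hdd : ∀ {P R : Sylow 2 X}, R ≠ P → dd P R ≤ center X) (P : Sylow 2 X) {a x : X}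
    (ha : a ∈ centralizer ((P : Subgroup X) : Set X)) (haZ : a ∉ center X)
    (hx : a⁻¹ * x * a * x⁻¹ ∈ center X) : x ∈ centralizer ((P : Subgroup X) : Set X) := by
  set C := centralizer ((P : Subgroup X) : Set X) with hC
  set N := normalizer ((P : Subgroup X) : Set X) with hN
  have hZC := h.center_le_centralizer P
  -- `x` normalises `P`
  have hxN : x ∈ N := by
    by_contra hxN
    have hne : x • P ≠ P := fun e => hxN (Sylow.smul_eq_iff_mem_normalizer.1 e)
    have h1 : x * a * x⁻¹ ∈ C := by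
      rw [show x * a * x⁻¹ = a * (a⁻¹ * x * a * x⁻¹) by group]
      exact mul_mem ha (hZC hx)
    have h2 : x * a * x⁻¹ ∈ dd P (x • P) := by
      refine ⟨h1, mem_centralizer_of_smul ?_⟩
      rw [show x⁻¹ * (x * a * x⁻¹) * x = a by group]
      exact ha
    refine haZ ?_
    rw [show a = (x * a * x⁻¹) * (a⁻¹ * x * a * x⁻¹)⁻¹ by group]
    exact mul_mem (hdd hne h2) (inv_mem hx)
  by_contra hxC
  obtain ⟨R, hR⟩ := h.exists_ne P
  obtain ⟨u, y, hu, huR, huN, hy, hi, hyr⟩ := h.exists_swap P hR
  haveI := Fact.mk h.prime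
  have hy1 : y ≠ 1 := fun e => by rw [e, orderOf_one] at hyr; exact h.prime.one_lt.ne hyr
  have hyC := (h.inverted P hu huN hy hi hy1).2.1
  -- a power of `x` of order `r`
  set o := orderOf (x ^ r) with ho
  have hor : o.Coprime r := (Nat.Coprime.coprime_dvd_right
    (Subgroup.orderOf_dvd_natCard _ (h.auto P x hxN)) (h.coprime_centralizer P)).symm
  have hx'r : orderOf (x ^ o) = r := by
    refine ((Nat.dvd_prime h.prime).1 (orderOf_dvd_of_pow_eq_one (by
      rw [← pow_mul, mul_comm, pow_mul, ho, pow_orderOf_eq_one]))).resolve_left fun e => hxC ?_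
    have h1 : x ^ o = 1 := orderOf_eq_one_iff.1 e
    obtain ⟨k, hk⟩ := exists_pow_eq_self_of_coprime (x := x)
      (Nat.Coprime.coprime_dvd_right (orderOf_dvd_of_pow_eq_one h1) hor.symm)
    rw [← hk]
    exact pow_mem (h.auto P x hxN) k
  set x' := x ^ o with hx'
  have hx'N : x' ∈ N := pow_mem hxN o
  -- conjugate it into `zpowers y`
  have hcardN : Nat.card N = r * Nat.card C := by
    rw [← h.relIndex_sylow P, Subgroup.relIndex, mul_comm,
      ← Nat.card_congr (Subgroup.subgroupOfEquivOfLe (centralizer_le_normalizer_self P)).toEquiv]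
    exact (Subgroup.card_mul_index _).symm
  have hfac : (Nat.card N).factorization r = 1 := by
    rw [hcardN, Nat.factorization_mul h.prime.ne_zero Nat.card_pos.ne']
    have h0 : (Nat.card C).factorization r = 0 :=
      Nat.factorization_eq_zero_of_not_dvd (h.prime.coprime_iff_not_dvd.1 (h.coprime_centralizer P))
    simp [h.prime.factorization_self, h0]
  obtain ⟨n, hn⟩ : ∃ n : N, (n : X) * x' * (n : X)⁻¹ ∈ zpowers y := by
    have hc : ∀ w : N, orderOf w = r → Nat.card (zpowers w) = r ^ (Nat.card N).factorization r :=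
      fun w hw => by rw [Nat.card_zpowers, hw, hfac, pow_one]
    let S1 : Sylow r N := Sylow.ofCard (zpowers ⟨x', hx'N⟩) (hc _ (by rw [Subgroup.orderOf_mk, hx'r]))
    let S2 : Sylow r N := Sylow.ofCard (zpowers ⟨y, hy⟩) (hc _ (by rw [Subgroup.orderOf_mk, hyr]))
    obtain ⟨n, hn⟩ := MulAction.exists_smul_eq N S1 S2
    refine ⟨n, ?_⟩
    have h1 : n * ⟨x', hx'N⟩ * n⁻¹ ∈ (S2 : Subgroup N) := by
      rw [← hn, Sylow.coe_subgroup_smul]
      exact ⟨_, mem_zpowers _, rfl⟩
    obtain ⟨k, hk⟩ := h1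
    exact ⟨k, by simpa using congrArg Subtype.val hk⟩
  -- transfer the congruence to `y`
  set z₀ := a⁻¹ * x * a * x⁻¹ with hz₀
  have hpow : ∀ (w b : X), b⁻¹ * w * b * w⁻¹ ∈ center X → ∀ k : ℕ,
      b⁻¹ * w ^ k * b * (w ^ k)⁻¹ ∈ center X := by
    intro w b hb k
    induction k with
    | zero => simpa using one_mem (center X)
    | succ k ih =>
      have e : b⁻¹ * w ^ (k + 1) * b * (w ^ (k + 1))⁻¹ =
          (b⁻¹ * w ^ k * b * (w ^ k)⁻¹) * (w ^ k * (b⁻¹ * w * b * w⁻¹) * (w ^ k)⁻¹) := by
        rw [pow_succ]; group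
      rw [e, Subgroup.mem_center_iff.1 hb, mul_inv_cancel_right]
      exact mul_mem ih hb
  set a' := (n : X) * a * (n : X)⁻¹ with ha'
  have ha'C : a' ∈ C := conj_mem_centralizer n.2 ha
  set x'' := (n : X) * x' * (n : X)⁻¹ with hx''
  have hx''r : orderOf x'' = r := by rw [hx'', Involution.orderOf_conj, hx'r]
  have hc'' : a'⁻¹ * x'' * a' * x''⁻¹ ∈ center X := by
    rw [ha', hx'', show ((n : X) * a * (n : X)⁻¹)⁻¹ * ((n : X) * x' * (n : X)⁻¹) *
      ((n : X) * a * (n : X)⁻¹) * ((n : X) * x' * (n : X)⁻¹)⁻¹ =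
      (n : X) * (a⁻¹ * x' * a * x'⁻¹) * (n : X)⁻¹ by group]
    exact (inferInstance : (center X).Normal).conj_mem _ (hpow x a hx o) _
  obtain ⟨j, hj⟩ := mem_powers_iff_mem_zpowers.2 hn
  -- `y` is a power of `x''`
  obtain ⟨i, hi'⟩ : ∃ i : ℕ, x'' ^ i = y := by
    have heq : zpowers x'' = zpowers y := Subgroup.eq_of_le_of_card_ge (zpowers_le.2 hn)
      (by rw [Nat.card_zpowers, Nat.card_zpowers, hx''r, hyr])
    exact mem_powers_iff_mem_zpowers.2 (heq ▸ mem_zpowers y)
  have hcy : a'⁻¹ * y * a' * y⁻¹ ∈ center X := hi' ▸ hpow x'' a' hc'' i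
  set z := a'⁻¹ * y * a' * y⁻¹ with hz
  have hzr : ∀ k : ℕ, a'⁻¹ * y ^ k * a' * (y ^ k)⁻¹ = z ^ k := by
    intro k
    induction k with
    | zero => simp
    | succ k ih =>
      have e : a'⁻¹ * y ^ (k + 1) * a' * (y ^ (k + 1))⁻¹ =
          (a'⁻¹ * y ^ k * a' * (y ^ k)⁻¹) * (y ^ k * z * (y ^ k)⁻¹) := by
        rw [hz, pow_succ]; group
      rw [e, ih, Subgroup.mem_center_iff.1 hcy, mul_inv_cancel_right, pow_succ]
  have hz1 : z = 1 := h.eq_one_of_pow P (hZC hcy) (by
    rw [← hzr r, ← hyr, pow_orderOf_eq_one]; simp)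
  have hcomm : Commute a' y := by
    show a' * y = y * a'
    rw [hz, mul_inv_eq_one] at hz1
    calc a' * y = a' * (a'⁻¹ * y * a') := by rw [hz1]
      _ = y * a' := by group
  have hdz := hdd (R := u • P) (P := P) (fun e => huN (Sylow.smul_eq_iff_mem_normalizer.1 e))
    (h.mem_dd_of_commute P hu huN hy hi hy1 ha'C hcomm)
  refine haZ ?_
  have h3 := (inferInstance : (center X).Normal).conj_mem _ hdz (n : X)⁻¹
  rwa [ha', inv_inv, show (n : X)⁻¹ * ((n : X) * a * (n : X)⁻¹) * n = a by group] at h3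

/-- The quotient by the centre. -/
theorem psl_quot (hdd : ∀ {P R : Sylow 2 X}, R ≠ P → dd P R ≤ center X) :
    (∃ (F : Type) (_ : Field F) (_ : Fintype F), Fintype.card F = r + 1 ∧
      Nonempty (X ⧸ center X ≃* Matrix.ProjectiveSpecialLinearGroup (Fin 2) F)) ∧
    Concl X r ∧
    ∀ P : Sylow 2 X, centralizer ((P : Subgroup X) : Set X) = (P : Subgroup X) ⊔ center X := by
  classical
  haveI := Fact.mk Nat.prime_two
  set π := QuotientGroup.mk' (center X) with hπ
  have hsurj : Function.Surjective π := QuotientGroup.mk'_surjective _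
  have hker : ∀ {g : X}, π g = 1 ↔ g ∈ center X := fun {g} => QuotientGroup.eq_one_iff g
  have hπeq : ∀ {g g' : X}, π g = π g' → g⁻¹ * g' ∈ center X := fun {g g'} e =>
    QuotientGroup.eq.1 e
  obtain ⟨P⟩ := (inferInstance : Nonempty (Sylow 2 X))
  obtain ⟨t, ht, ht1⟩ := h.exists_ne_one P
  have htt := h.elem P t ht
  set C := centralizer ((P : Subgroup X) : Set X) with hC
  set N := normalizer ((P : Subgroup X) : Set X) with hN
  have hCt : centralizer ({t} : Set X) = C := h.centralizer_eq P ht ht1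
  have hPC : (P : Subgroup X) ≤ C := fun s hs =>
    Subgroup.mem_centralizer_iff.2 fun w hw => (h.elem.commute hw hs).eq
  have htZ : t ∉ center X := fun hz => ht1 (h.sq_eq_one_center hz htt)
  have hcent : ∀ g : X, π g ∈ cent (π t) ↔ g ∈ C := by
    intro g
    rw [mem_cent]
    constructor
    · intro hc
      rw [← hCt, mem_centralizer_singleton_iff]
      have h1 : π (g * t * g⁻¹) = π t := by
        rw [map_mul, map_mul, map_inv, hc.eq, mul_inv_cancel_right]
      have hz := hπeq h1.symm
      set z := t⁻¹ * (g * t * g⁻¹) with hzdef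
      have hz2 : z * z = 1 := by
        have h2 : g * t * g⁻¹ = t * z := by rw [hzdef, mul_inv_cancel_left]
        calc z * z = t * t * (z * z) := by rw [htt, one_mul]
          _ = t * (t * z) * z := by group
          _ = t * (z * t) * z := by rw [Subgroup.mem_center_iff.1 hz t]
          _ = t * z * (t * z) := by group
          _ = g * (t * t) * g⁻¹ := by rw [← h2]; group
          _ = 1 := by rw [htt, mul_one, mul_inv_cancel]
      have hz1 := h.sq_eq_one_center hz hz2
      rw [hzdef, inv_mul_eq_one, eq_comm, mul_inv_eq_iff_eq_mul] at hz1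
      exact hz1
    · intro hg
      exact (show Commute g t from (Subgroup.mem_centralizer_iff.1 hg t ht).symm).map π
  have hcentA : ∀ q : X ⧸ center X, q ∈ cent (π t) ↔ ∃ g ∈ C, π g = q := by
    intro q
    obtain ⟨g, rfl⟩ := hsurj q
    refine ⟨fun hq => ⟨g, (hcent g).1 hq, rfl⟩, ?_⟩
    rintro ⟨g', hg', he⟩
    exact he ▸ (hcent g').2 hg'
  set Pq : Sylow 2 (X ⧸ center X) := P.mapSurjective hsurj with hPq
  have hPqC : (Pq : Subgroup (X ⧸ center X)) ≤ cent (π t) := by
    rintro _ ⟨s, hs, rfl⟩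
    exact (hcent s).2 (hPC hs)
  obtain ⟨R, hR⟩ := h.exists_ne P
  obtain ⟨u, y, hu, huR, huN, hy, hi, hyr⟩ := h.exists_swap P hR
  have hy1 : y ≠ 1 := fun e => by rw [e, orderOf_one] at hyr; exact h.prime.one_lt.ne hyr
  have hyC := (h.inverted P hu huN hy hi hy1).2.1
  -- the preimage of the normaliser
  have hnorm : ∀ g : X, g ∈ N → π g ∈ nrm (π t) := by
    intro g hg
    refine Subgroup.mem_normalizer_iff.2 fun q => ?_
    obtain ⟨w, rfl⟩ := hsurj q
    rw [← map_inv, ← map_mul, ← map_mul, hcent, hcent]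
    refine ⟨conj_mem_centralizer hg, fun hw => ?_⟩
    have := conj_mem_centralizer (inv_mem hg) hw
    rwa [inv_inv, show g⁻¹ * (g * w * g⁻¹) * g = w by group] at this
  have hD : CharDeep.CC.Data (X ⧸ center X) (π t) :=
    { sub := by
        intro q hq hq1 q' hq'
        obtain ⟨a, ha, rfl⟩ := (hcentA q).1 hq
        obtain ⟨x, rfl⟩ := hsurj q'
        refine (hcent x).2 (h.mem_centralizer_of_commute_mod hdd P ha (fun hz => hq1 (hker.2 hz)) ?_)
        rw [← hker]
        have hc : π x * π a = π a * π x := (mem_cent.1 hq').eq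
        simp only [map_mul, map_inv]
        rw [mul_assoc ((π a)⁻¹), hc, inv_mul_cancel_left, mul_inv_cancel]
      t_ne := fun e => htZ (hker.1 e)
      t_sq := by rw [← map_mul, htt, map_one]
      sylow := ⟨Pq, hPqC⟩
      ne_top := by
        intro htop
        have hn : ∀ g w : X, w ∈ C → g * w * g⁻¹ ∈ C := fun g w hw => by
          rw [← hcent] at hw ⊢
          rw [map_mul, map_mul, map_inv]
          exact (Subgroup.mem_normalizer_iff.1 (htop ▸ mem_top (π g)) _).1 hw
        refine huN ?_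
        have hP' : (((u • P : Sylow 2 X)) : Subgroup X) ≤ N := by
          rw [Sylow.coe_subgroup_smul]
          rintro _ ⟨s, hs, rfl⟩
          exact centralizer_le_normalizer_self P (hn u s (hPC hs))
        exact Sylow.smul_eq_iff_mem_normalizer.1 (sylow_eq_of_le_normalizer hP').symm
      ne_cent := by
        intro he
        exact hyC ((hcent y).1 (he ▸ hnorm y hy)) }
  have hidx := (CharDeep.CC.zassenhaus hD).2.2.1
  obtain ⟨-, F, hF, hFF, f, -, hcF, hc2, e⟩ := CharDeep.CC.psl_of_data hD (by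
    intro b hb hb1 n hn x hx
    have hxc : x ∈ cent (π t) := hD.sub b hb hb1 hx
    have hc2 : IsPGroup 2 (cent (π t)) := by
      obtain ⟨p, k, hp, hk, hpk⟩ : ∃ p k : ℕ, Prime p ∧ 0 < k ∧ p ^ k = Nat.card (cent (π t)) := by
        obtain ⟨hsimple, hZ, hΩ, hU, b', hab, hT⟩ := CharDeep.CC.zassenhaus hD
        haveI := Fintype.ofFinite (X ⧸ center X)
        haveI := Fintype.ofFinite ((X ⧸ center X) ⧸ nrm (π t))
        haveI := hsimple
        refine ZassNormal.isPrimePow_kernel hZ hab hU ?_
        rw [hT]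
        refine Nat.odd_iff.2 (Nat.two_dvd_ne_zero.1 fun hd => Pq.not_dvd_index (dvd_trans ?_
          (Subgroup.index_dvd_of_le hPqC)))
        rw [← Subgroup.relIndex_mul_index (CharDeep.CA.cent_le_nrm (π t))]
        exact dvd_mul_of_dvd_left hd _
      have h2 : 2 ∣ Nat.card (cent (π t)) := by
        have h2' : orderOf (π t) = 2 :=
          orderOf_eq_prime (by rw [pow_two]; exact hD.t_sq) hD.t_ne
        exact h2' ▸ Subgroup.orderOf_dvd_natCard _ (mem_cent.2 (Commute.refl _))
      rw [← hpk] at h2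
      have hp2 := (Nat.prime_dvd_prime_iff_eq Nat.prime_two hp.nat_prime).1
        (Nat.prime_two.dvd_of_dvd_pow h2)
      exact IsPGroup.of_card (n := k) (by rw [← hpk, hp2])
    have heq : cent (π t) = (Pq : Subgroup (X ⧸ center X)) := Pq.3 hc2 hPqC
    have hab : ∀ a' ∈ cent (π t), ∀ b' ∈ cent (π t), Commute a' b' := by
      rw [heq]
      rintro _ ⟨s, hs, rfl⟩ _ ⟨s', hs', rfl⟩
      exact (h.elem.commute hs hs').map π
    exact mem_cent.2 (hab _ ((Subgroup.mem_normalizer_iff.1 hn x).1 hxc) b hb))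

  have h2group : IsPGroup 2 (cent (π t)) := IsPGroup.of_card hc2
  have heq : cent (π t) = (Pq : Subgroup (X ⧸ center X)) := Pq.3 h2group hPqC
  -- the centraliser of `P`
  have hCP : C ≤ (P : Subgroup X) ⊔ center X := by
    intro c hc
    obtain ⟨s, hs, he⟩ := heq.le ((hcent c).2 hc)
    rw [show c = s * (s⁻¹ * c) by group]
    exact mul_mem_sup hs (hπeq he)
  have hcardP : Nat.card (Pq : Subgroup (X ⧸ center X)) = r + 1 := by
    rw [hPq, Sylow.coe_mapSurjective, ← h.card P]
    have hinj : Function.Injective (π.comp (P : Subgroup X).subtype) := by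
      rw [injective_iff_map_eq_one]
      intro s hs
      exact Subtype.ext (h.sq_eq_one_center (hker.1 hs) (h.elem P s s.2))
    rw [← Subgroup.card_map_of_injective hinj (K := (⊤ : Subgroup (P : Subgroup X))) |>.trans
      Subgroup.card_top]
    congr 2
    ext q
    simp [Subgroup.mem_map]
  have hq1 : Fintype.card F = r + 1 := by rw [hcF, ← hc2, heq, hcardP]
  -- the number of Sylow subgroups
  have hcomap : (nrm (π t)).comap π = N := by
    refine le_antisymm (fun g hg => ?_) (fun g hg => hnorm g hg)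
    refine Sylow.smul_eq_iff_mem_normalizer.1 ?_
    refine (sylow_eq_of_le_normalizer ?_).symm
    rw [Sylow.coe_subgroup_smul]
    rintro _ ⟨s, hs, rfl⟩
    refine centralizer_le_normalizer_self P ((hcent _).1 ?_)
    show π (g * s * g⁻¹) ∈ cent (π t)
    rw [map_mul, map_mul, map_inv]
    exact (Subgroup.mem_normalizer_iff.1 hg _).1 ((hcent s).2 (hPC hs))
  have hcount : Nat.card (Sylow 2 X) = r + 2 := by
    rw [P.card_eq_index_normalizer]
    show N.index = r + 2
    rw [← hcomap, Subgroup.index_comap_of_surjective _ hsurj,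
      Subgroup.index, hidx, heq, hcardP]
  refine ⟨⟨F, hF, hFF, hq1, e⟩, ⟨hcount, fun l hl hd => ?_⟩, fun P' => ?_⟩
  · -- real elements of order `l`
    obtain ⟨e⟩ := e
    haveI := Fact.mk hl
    haveI : CharP F 2 := by
      refine charP_of_card_eq_prime_pow (p := 2) (f := f) ?_
      exact hcF
    have hl2 : Odd l := hl.odd_of_ne_two fun el => by
      subst el
      obtain ⟨m, hm⟩ := (IsPGroup.iff_card (p := 2)).1 P.2
      rw [h.card P] at hm
      rcases m with _ | m
      · simp at hm; have := h.three; omega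
      · rw [pow_succ] at hm; omega
    have hdvd : l ∣ Nat.card (X ⧸ center X) := by
      refine dvd_trans ?_ (Subgroup.index_dvd_card (nrm (π t)))
      rw [Subgroup.index, hidx, heq, hcardP]
      exact hd
    obtain ⟨q, hq⟩ := exists_prime_orderOf_dvd_card' (G := X ⧸ center X) l hdvd
    let σ : Matrix.SpecialLinearGroup (Fin 2) F ≃* Matrix.ProjectiveSpecialLinearGroup (Fin 2) F :=
      MulEquiv.ofBijective (QuotientGroup.mk' _)
        ⟨(MonoidHom.ker_eq_bot_iff _).1 (by rw [QuotientGroup.ker_mk', sl_center_eq_bot]),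
          QuotientGroup.mk'_surjective _⟩
    set ψ := e.trans σ.symm with hψ
    have hAo : orderOf (ψ q) = l := by rw [MulEquiv.orderOf_eq, hq]
    obtain ⟨U, hU, hU1, hUA⟩ := sl_exists_inverting (F := F) (A := ψ q) (hAo.symm ▸ hl2)
      (fun e1 => by rw [e1, orderOf_one] at hAo; exact hl.one_lt.ne hAo)
    obtain ⟨u₀, hu₀⟩ := hsurj (ψ.symm U)
    obtain ⟨x, hx⟩ := hsurj q
    have hU2 : ψ.symm U * ψ.symm U = 1 := by rw [← map_mul, hU, map_one]
    have hU1' : ψ.symm U ≠ 1 := fun e1 => hU1 (by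
      simpa using congrArg ψ e1)
    -- lift the involution
    set k := Nat.card (center X) with hk
    set u' := u₀ ^ k with hu'
    have hu'π : π u' = ψ.symm U := by
      obtain ⟨c, hc⟩ := h.odd_card_center
      rw [hu', map_pow, hu₀, hk, hc, pow_succ, pow_mul, pow_two, hU2, one_pow, one_mul]
    have hu'2 : orderOf u' = 2 := by
      refine orderOf_eq_prime ?_ fun e1 => hU1' (by rw [← hu'π, e1, map_one])
      rw [hu', ← pow_mul, mul_comm, pow_mul]
      have hmem : u₀ ^ 2 ∈ center X := hker.1 (by rw [map_pow, hu₀, pow_two, hU2])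
      exact congrArg Subtype.val (pow_card_eq_one' (G := center X) (x := ⟨_, hmem⟩))
    set w := x * (u' * x⁻¹ * u'⁻¹) with hw
    have huu := Involution.mul_self_of_orderOf hu'2
    have hwi : u' * w * u'⁻¹ = w⁻¹ := by
      rw [hw, Involution.inv_of_orderOf hu'2, mul_inv_rev, mul_inv_rev, mul_inv_rev, inv_inv,
        Involution.inv_of_orderOf hu'2]
      calc u' * (x * (u' * x⁻¹ * u')) * u' = u' * (x * u') * x⁻¹ * (u' * u') := by group
        _ = _ := by rw [huu]; group
    have hUq : ψ.symm U * q * (ψ.symm U)⁻¹ = q⁻¹ := by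
      apply ψ.injective
      simpa using hUA
    have hwπ : π w = q ^ 2 := by
      rw [hw, map_mul, map_mul, map_mul, map_inv, map_inv, hu'π, hx, pow_two]
      congr 1
      have := congrArg (·⁻¹) hUq
      simpa [mul_assoc] using this
    have hlw : l ∣ orderOf w := by
      have h1 : orderOf (q ^ 2) = l := by
        rw [orderOf_pow' _ two_ne_zero, hq, Nat.Coprime.gcd_eq_one hl2.coprime_two_right, Nat.div_one]
      exact h1 ▸ hwπ ▸ orderOf_map_dvd π w
    exact ⟨u', w ^ (orderOf w / l), hu'2, orderOf_pow_orderOf_div (orderOf_pos w).ne' hlw,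
      inverts_pow hwi _⟩
  · refine le_antisymm ?_ (sup_le (fun s hs => Subgroup.mem_centralizer_iff.2 fun w hw =>
      (h.elem.commute hw hs).eq) (h.center_le_centralizer P'))
    obtain ⟨g, rfl⟩ := MulAction.exists_smul_eq X P P'
    intro c hc
    have h1 := hCP (centralizer_smul hc)
    haveI : (center X).Normal := inferInstance
    obtain ⟨s, hs, z, hz, he⟩ := Subgroup.mem_sup_of_normal_right.1 h1
    rw [show c = (g * s * g⁻¹) * (g * z * g⁻¹) by
      rw [show g * s * g⁻¹ * (g * z * g⁻¹) = g * (s * z) * g⁻¹ by group, he]; group]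
    refine mul_mem_sup ?_ ((inferInstance : (center X).Normal).conj_mem z hz g)
    rw [Sylow.coe_subgroup_smul]
    exact ⟨s, hs, rfl⟩

end Hyp

end Cfsg.Agent.SubConj42
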