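import Cfsg.Agent.SubConj42.Main
import Cfsg.Prelude.Def_CaseTheorems
import Cfsg.Prelude.Def_Transfer

/-!
# Groups in which subgroups of the same order are conjugate: first consequences
-/

set_option autoImplicit false
set_option linter.style.haveILetI false
set_option linter.unusedSectionVars false

namespace Cfsg.Agent.SubConj42

open Subgroup MulAction Cfsg
open scoped Pointwise

/-- Any two subgroups of the same order are conjugate. -/
def ConjSub (G : Type*) [Group G] : Prop :=
  ∀ H K : Subgroup G, Nat.card H = Nat.card K →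
    ∃ g : G, K = H.map (MulAut.conj g).toMonoidHom

variable {G : Type*} [Group G] [Finite G]

/-- The property passes to quotients. -/
theorem ConjSub.quotient (hC : ConjSub G) (N : Subgroup G) [N.Normal] : ConjSub (G ⧸ N) := by
  intro H K hHK
  obtain ⟨g, hg⟩ := hC (H.comap (QuotientGroup.mk' N)) (K.comap (QuotientGroup.mk' N)) (by
    rw [Thompson.card_comap_quotient, Thompson.card_comap_quotient, hHK])
  refine ⟨QuotientGroup.mk' N g, ?_⟩
  have hsurj := QuotientGroup.mk'_surjective N
  rw [← Subgroup.map_comap_eq_self_of_surjective hsurj H,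
    ← Subgroup.map_comap_eq_self_of_surjective hsurj K, hg, Subgroup.map_map, Subgroup.map_map]
  congr 1

/-- All involutions are conjugate. -/
theorem ConjSub.isConj (hC : ConjSub G) {s t : G} (hs : orderOf s = 2) (ht : orderOf t = 2) :
    ∃ g : G, g * s * g⁻¹ = t := by
  obtain ⟨g, hg⟩ := hC (zpowers s) (zpowers t) (by rw [Nat.card_zpowers, Nat.card_zpowers, hs, ht])
  refine ⟨g, ?_⟩
  have h1 : g * s * g⁻¹ ∈ zpowers t := hg.symm ▸ ⟨s, mem_zpowers s, rfl⟩
  obtain ⟨k, hk⟩ := mem_powers_iff_mem_zpowers.2 h1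
  simp only at hk
  have ho : orderOf (g * s * g⁻¹) = 2 := by rw [Involution.orderOf_conj, hs]
  rcases Nat.even_or_odd k with ⟨m, rfl⟩ | ⟨m, rfl⟩
  · rw [← two_mul, pow_mul, pow_two, Involution.mul_self_of_orderOf ht, one_pow] at hk
    rw [← hk, orderOf_one] at ho
    omega
  · rw [pow_succ, pow_mul, pow_two, Involution.mul_self_of_orderOf ht, one_pow, one_mul] at hk
    exact hk.symm

omit [Finite G] in
theorem card_zpowers_mul {t x : G} {r : ℕ} (hr : r.Prime) (hr2 : r ≠ 2) (ht : orderOf t = 2)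
    (hx : orderOf x = r) (hc : Commute t x) : orderOf (t * x) = 2 * r := by
  rw [hc.orderOf_mul_eq_mul_orderOf_of_coprime
    (by rw [ht, hx]; exact (Nat.coprime_primes Nat.prime_two hr).2 hr2.symm), ht, hx]

/-- No element of odd prime order is centralised by an involution while another one is inverted. -/
theorem ConjSub.noMix (hC : ConjSub G) : NoMix G := by
  intro r hr hr2 x y t u hx hy ht hu hc hi
  have huu := Involution.mul_self_of_orderOf hu
  -- the subgroup generated by `u` and `y` has order `2 * r`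
  have hun : u ∈ normalizer (zpowers y : Set G) := by
    refine Subgroup.mem_normalizer_iff.2 fun z => ⟨?_, ?_⟩
    · rintro ⟨k, rfl⟩
      refine ⟨-k, ?_⟩
      show y ^ (-k) = u * y ^ k * u⁻¹
      rw [← conj_zpow, hi, inv_zpow, zpow_neg]
    · rintro ⟨k, hk⟩
      refine ⟨-k, ?_⟩
      change y ^ k = u * z * u⁻¹ at hk
      show y ^ (-k) = z
      calc y ^ (-k) = u * y ^ k * u⁻¹ := by rw [← conj_zpow, hi, inv_zpow, zpow_neg]
        _ = (u * u) * z * (u * u)⁻¹ := by rw [hk]; group
        _ = z := by rw [huu]; group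
  have hle : zpowers u ≤ normalizer (zpowers y : Set G) := zpowers_le.2 hun
  have hdis : Disjoint (zpowers u) (zpowers y) := Subgroup.disjoint_of_coprime_natCard (by
    rw [Nat.card_zpowers, Nat.card_zpowers, hu, hy]
    exact (Nat.coprime_primes Nat.prime_two hr).2 hr2.symm)
  have hcard : Nat.card ↥(zpowers u ⊔ zpowers y) = 2 * r := by
    let f : zpowers u × zpowers y → ↥(zpowers u ⊔ zpowers y) := fun z =>
      ⟨z.1 * z.2, mul_mem_sup z.1.2 z.2.2⟩
    have hf : Function.Bijective f := by
      refine ⟨fun z w hzw => ?_, fun ⟨g, hg⟩ => ?_⟩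
      · exact Subgroup.mul_injective_of_disjoint hdis (congrArg Subtype.val hzw)
      · have hgm : g ∈ ((zpowers u : Set G) * (zpowers y : Set G)) := by
          rw [← Subgroup.coe_mul_of_left_le_normalizer_right _ _ hle]
          exact hg
        obtain ⟨a, ha, b, hb, rfl⟩ := hgm
        exact ⟨(⟨a, ha⟩, ⟨b, hb⟩), rfl⟩
    rw [← Nat.card_congr (Equiv.ofBijective f hf), Nat.card_prod, Nat.card_zpowers, Nat.card_zpowers,
      hu, hy]
  obtain ⟨g, hg⟩ := hC (zpowers (t * x)) (zpowers u ⊔ zpowers y) (by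
    rw [Nat.card_zpowers, card_zpowers_mul hr hr2 ht hx hc, hcard])
  have hu' : u ∈ (zpowers (t * x)).map (MulAut.conj g : G ≃* G).toMonoidHom :=
    hg ▸ mem_sup_left (mem_zpowers u)
  have hy' : y ∈ (zpowers (t * x)).map (MulAut.conj g : G ≃* G).toMonoidHom :=
    hg ▸ mem_sup_right (mem_zpowers y)
  rw [MonoidHom.map_zpowers] at hu' hy'
  obtain ⟨i, hi'⟩ := hu'
  obtain ⟨j, hj⟩ := hy'
  have hcy : Commute u y := hi' ▸ hj ▸ Commute.zpow_zpow (Commute.refl _) i j
  rw [hcy.eq, mul_inv_cancel_right] at hi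
  have h2 : y ^ 2 = 1 := by rw [pow_two]; nth_rewrite 2 [hi]; exact mul_inv_cancel y
  have h3 := orderOf_dvd_of_pow_eq_one h2
  rw [hy] at h3
  exact hr2 ((Nat.prime_dvd_prime_iff_eq hr Nat.prime_two).1 h3)

/-- No non-trivial normal subgroup of odd order. -/
def OFree (G : Type*) [Group G] : Prop := ∀ N : Subgroup G, N.Normal → Odd (Nat.card N) → N = ⊥

theorem oFree_quotient (G : Type*) [Group G] [Finite G] [(oddCore G).Normal] :
    OFree (G ⧸ oddCore G) := by
  intro N hN ho
  have h1 : N ≤ pPrimeCore 2 (G ⧸ oddCore G) :=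
    Thompson.le_pPrimeCore hN (Nat.coprime_two_right.2 ho)
  rw [Thompson.pPrimeCore_quotient_pPrimeCore] at h1
  exact le_bot_iff.1 h1

theorem OFree.pPrimeCore_eq_bot (hfree : OFree G) : pPrimeCore 2 G = ⊥ :=
  hfree _ (Thompson.sSup_normal fun _ hN => hN.1)
    (Nat.coprime_two_right.1 Thompson.card_pPrimeCore_coprime)

/-- With a normal 2-complement the group is a 2-group. -/
theorem OFree.eq_top_of_complement (hfree : OFree G) (S : Sylow 2 G) {K : Subgroup G} (hK : K.Normal)
    (hc : K.IsComplement' (S : Subgroup G)) : (S : Subgroup G) = ⊤ := by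
  have hodd : Odd (Nat.card K) := by
    rw [← hc.index_eq_card]
    exact Nat.odd_iff.2 (Nat.two_dvd_ne_zero.1 fun h2 => by
      haveI := Fact.mk Nat.prime_two
      exact S.not_dvd_index h2)
  have := hfree K hK hodd
  subst this
  exact isComplement'_bot_left.1 hc

theorem OFree.eq_top_of_burnside (hfree : OFree G) (S : Sylow 2 G)
    (hP : normalizer (S : Set G) ≤ centralizer (S : Set G)) : (S : Subgroup G) = ⊤ := by
  haveI := Fact.mk Nat.prime_two
  exact hfree.eq_top_of_complement S (MonoidHom.normal_ker _)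
    (MonoidHom.ker_transferSylow_isComplement' S hP)

/-- A cyclic Sylow 2-subgroup. -/
theorem OFree.eq_top_of_isCyclic (hfree : OFree G) (S : Sylow 2 G) (hS : IsCyclic (S : Subgroup G)) :
    (S : Subgroup G) = ⊤ := by
  haveI := Fact.mk Nat.prime_two
  by_cases h2 : 2 ∣ Nat.card G
  · exact hfree.eq_top_of_complement S (MonoidHom.normal_ker _)
      (IsCyclic.isComplement' ((Nat.minFac_eq_two_iff _).2 h2) hS)
  · have hb : (⊤ : Subgroup G) = ⊥ := hfree ⊤ inferInstance (by
      rw [Subgroup.card_top]; exact Nat.odd_iff.2 (Nat.two_dvd_ne_zero.1 h2))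
    exact le_antisymm le_top (hb ▸ bot_le)

/-- An involution normalising a `g`-group centralises it as soon as some element of order `g` is
centralised by an involution. -/
theorem NoMix.commute_pgroup {X : Type*} [Group X] [Finite X] (hm : NoMix X) {g : ℕ} (hg : g.Prime)
    (hg2 : g ≠ 2) {x t w : X} (hx : orderOf x = g) (ht : orderOf t = 2) (htx : Commute t x)
    (hw : orderOf w = 2) {D : Subgroup X} (hD : IsPGroup g D)
    (hnorm : w ∈ normalizer (D : Set X)) : w ∈ centralizer (D : Set X) := by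
  rw [Subgroup.mem_centralizer_iff]
  intro d hd
  have hwi : w⁻¹ = w := Involution.inv_of_orderOf hw
  have hww := Involution.mul_self_of_orderOf hw
  set c := d⁻¹ * (w * d * w⁻¹) with hc
  have hcD : c ∈ D := mul_mem (inv_mem hd) ((Subgroup.mem_normalizer_iff.1 hnorm d).1 hd)
  have hi : w * c * w⁻¹ = c⁻¹ := by
    rw [hc, hwi, mul_inv_rev, mul_inv_rev, mul_inv_rev, hwi, inv_inv]
    calc w * (d⁻¹ * (w * d * w)) * w = w * d⁻¹ * w * d * (w * w) := by group
      _ = w * (d⁻¹ * w) * d := by rw [hww]; group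
  by_cases hc1 : c = 1
  · rw [hc, inv_mul_eq_one] at hc1
    exact (eq_mul_inv_iff_mul_eq.1 hc1)
  exfalso
  haveI := Fact.mk hg
  obtain ⟨a, ha⟩ := (IsPGroup.iff_orderOf.1 hD) ⟨c, hcD⟩
  rw [Subgroup.orderOf_mk] at ha
  rcases a with _ | a
  · rw [pow_zero, orderOf_eq_one_iff] at ha
    exact hc1 ha
  refine hm g hg hg2 x (c ^ g ^ a) t w hx ?_ ht hw htx (inverts_pow hi _)
  rw [orderOf_pow' _ (pow_ne_zero _ hg.ne_zero), ha, pow_succ,
    Nat.gcd_eq_right (dvd_mul_right _ _), Nat.mul_div_cancel_left _ (pow_pos hg.pos _)]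

end Cfsg.Agent.SubConj42
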