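import Cfsg.Agent.SubConj42.Count

/-!
# Subgroups containing two Sylow 2-subgroups
-/

set_option autoImplicit false
set_option linter.style.haveILetI false
set_option linter.unusedSectionVars false

namespace Cfsg.Agent.SubConj42

open Subgroup MulAction
open scoped Pointwise

variable {X : Type*} [Group X] [Finite X]

/-- The conclusion of the induction: the number of Sylow 2-subgroups is `r + 2`, and for each prime
divisor of `r + 2` an element of that order is inverted by an involution. -/
def Concl (X : Type*) [Group X] (r : ℕ) : Prop :=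
  Nat.card (Sylow 2 X) = r + 2 ∧ ∀ l : ℕ, l.Prime → l ∣ r + 2 →
    ∃ u x : X, orderOf u = 2 ∧ orderOf x = l ∧ u * x * u⁻¹ = x⁻¹

theorem closure_involutions_ge (hE : Elem X) (P : Sylow 2 X) :
    (P : Subgroup X) ≤ closure {v : X | orderOf v = 2} := by
  intro s hs
  by_cases hs1 : s = 1
  · rw [hs1]; exact one_mem _
  · exact subset_closure (hE.orderOf_eq hs hs1)

namespace Hyp

variable {r : ℕ} (h : Hyp X r)
include h

theorem card_sylow_subgroup {Y : Subgroup X} {P : Sylow 2 X} (hP : (P : Subgroup X) ≤ Y)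
    (R : Sylow 2 Y) : Nat.card (R : Subgroup Y) = r + 1 := by
  haveI := Fact.mk Nat.prime_two
  rw [R.card_eq_multiplicity, ← (P.subtype hP).card_eq_multiplicity, Sylow.coe_subtype,
    Nat.card_congr (Subgroup.subgroupOfEquivOfLe hP).toEquiv, h.card P]

theorem exists_sylow_of_subgroup {Y : Subgroup X} {P : Sylow 2 X} (hP : (P : Subgroup X) ≤ Y)
    (R : Sylow 2 Y) : ∃ T : Sylow 2 X, (T : Subgroup X) = (R : Subgroup Y).map Y.subtype := by
  haveI := Fact.mk Nat.prime_two
  refine ⟨Sylow.ofCard ((R : Subgroup Y).map Y.subtype) ?_, rfl⟩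
  rw [Subgroup.card_map_of_injective Y.subtype_injective, h.card_sylow_subgroup hP R, ← h.card P,
    P.card_eq_multiplicity]

theorem subgroup {Y : Subgroup X} {P : Sylow 2 X} (hP : (P : Subgroup X) ≤ Y)
    (hn : ¬ Y ≤ normalizer ((P : Subgroup X) : Set X)) : Hyp Y r where
  mix := h.mix.subgroup Y
  elem := fun R x hx => by
    obtain ⟨T, hT⟩ := h.exists_sylow_of_subgroup hP R
    exact Subtype.ext (h.elem T (x : X) (hT ▸ ⟨x, hx, rfl⟩))
  prime := h.prime
  three := h.three
  card := h.card_sylow_subgroup hP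
  nonnormal := fun R hR => hn fun g hg => by
    haveI := Fact.mk Nat.prime_two
    haveI := Sylow.unique_of_normal R hR
    have hPY : (P.subtype hP : Sylow 2 Y) = R := Subsingleton.elim _ _
    rw [← hPY] at hR
    rw [Sylow.coe_subtype] at hR
    exact (Subgroup.normal_subgroupOf_iff_le_normalizer hP).1 hR hg
  auto := fun R g hg => by
    obtain ⟨T, hT⟩ := h.exists_sylow_of_subgroup hP R
    have hgT : (g : X) ∈ normalizer ((T : Subgroup X) : Set X) := by
      rw [hT, Subgroup.mem_normalizer_iff]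
      intro z
      constructor
      · rintro ⟨w, hw, rfl⟩
        exact ⟨g * w * g⁻¹, (Subgroup.mem_normalizer_iff.1 hg w).1 hw, by simp⟩
      · rintro ⟨w, hw, he⟩
        refine ⟨g⁻¹ * w * g, ?_, ?_⟩
        · refine (Subgroup.mem_normalizer_iff.1 hg _).2 ?_
          rw [show g * (g⁻¹ * w * g) * g⁻¹ = w by group]
          exact hw
        · simp only [Subgroup.coe_subtype] at he ⊢
          push_cast
          rw [he]
          group
    have h1 := h.auto T (g : X) hgT
    rw [Subgroup.mem_centralizer_iff] at h1 ⊢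
    intro s hs
    exact Subtype.ext (h1 (s : X) (hT ▸ ⟨s, hs, rfl⟩))

theorem card_sylow_le_subgroup {Y : Subgroup X} {P : Sylow 2 X} (hP : (P : Subgroup X) ≤ Y) :
    Nat.card (Sylow 2 Y) = Nat.card {T : Sylow 2 X // (T : Subgroup X) ≤ Y} := by
  refine (Nat.card_congr (Equiv.ofBijective
    (fun T : {T : Sylow 2 X // (T : Subgroup X) ≤ Y} => T.1.subtype T.2) ⟨?_, ?_⟩)).symm
  · intro T T' he
    refine Subtype.ext (Sylow.ext ?_)
    have h1 := congrArg (fun R : Sylow 2 Y => (R : Subgroup Y).map Y.subtype) he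
    simpa [Subgroup.map_subgroupOf_eq_of_le T.2, Subgroup.map_subgroupOf_eq_of_le T'.2] using h1
  · intro R
    obtain ⟨T, hT⟩ := h.exists_sylow_of_subgroup hP R
    refine ⟨⟨T, by rw [hT]; exact Subgroup.map_subtype_le _⟩, Sylow.ext ?_⟩
    rw [Sylow.coe_subtype]
    show (T : Subgroup X).subgroupOf Y = _
    rw [hT, Subgroup.subgroupOf, Subgroup.comap_map_eq_self_of_injective Y.subtype_injective]

theorem concl_of_subgroup {Y : Subgroup X} (hY : ∀ T : Sylow 2 X, (T : Subgroup X) ≤ Y)
    (hc : Concl Y r) : Concl X r := by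
  obtain ⟨P⟩ := (inferInstance : Nonempty (Sylow 2 X))
  refine ⟨?_, fun l hl hd => ?_⟩
  · rw [← hc.1, h.card_sylow_le_subgroup (hY P)]
    exact (Nat.card_congr (Equiv.subtypeUnivEquiv hY)).symm
  · obtain ⟨u, x, hu, hx, hi⟩ := hc.2 l hl hd
    exact ⟨u, x, by rw [Subgroup.orderOf_coe, hu], by rw [Subgroup.orderOf_coe, hx],
      congrArg Subtype.val hi⟩

/-- A subgroup with `r + 2` Sylow 2-subgroups, two of them being `P` and `R`, has `P` and the
conjugates of `R` under `P` as its Sylow 2-subgroups. -/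
theorem le_subgroup_cases {Y : Subgroup X} {P R : Sylow 2 X} (hP : (P : Subgroup X) ≤ Y)
    (hR : (R : Subgroup X) ≤ Y) (hne : R ≠ P) (hc : Nat.card (Sylow 2 Y) = r + 2)
    {T : Sylow 2 X} (hT : (T : Subgroup X) ≤ Y) :
    T = P ∨ ∃ s ∈ (P : Subgroup X), T = s • R := by
  classical
  have hsR : ∀ s : (P : Subgroup X), (((s : X) • R : Sylow 2 X) : Subgroup X) ≤ Y := by
    intro s
    rw [Sylow.coe_subgroup_smul]
    rintro _ ⟨a, ha, rfl⟩
    exact mul_mem (mul_mem (hP s.2) (hR ha)) (inv_mem (hP s.2))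
  let f : Option (P : Subgroup X) → {T : Sylow 2 X // (T : Subgroup X) ≤ Y} := fun o =>
    match o with
    | none => ⟨P, hP⟩
    | some s => ⟨(s : X) • R, hsR s⟩
  have hPs : ∀ s : (P : Subgroup X), (s : X) • R ≠ P := fun s he => hne (by
    have hfix := Sylow.smul_eq_iff_mem_normalizer.2 (inv_mem (Subgroup.le_normalizer s.2))
    rw [← inv_smul_smul (s : X) R, he, hfix])
  have hf : Function.Injective f := by
    intro a b hab
    rcases a with _ | a <;> rcases b with _ | b
    · rfl
    · exact absurd (congrArg Subtype.val hab).symm (hPs b)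
    · exact absurd (congrArg Subtype.val hab) (hPs a)
    · have h1 : (a : X) • R = (b : X) • R := congrArg Subtype.val hab
      have h2 : ((b : X)⁻¹ * a) ∈ normalizer ((R : Subgroup X) : Set X) :=
        Sylow.smul_eq_iff_mem_normalizer.1 (by rw [mul_smul, h1, inv_smul_smul])
      by_contra hab'
      have hm : (b : X)⁻¹ * a ∈ (P : Subgroup X) := mul_mem (inv_mem b.2) a.2
      have hne1 : (b : X)⁻¹ * a ≠ 1 := fun e => hab' (by rw [Subtype.ext (inv_mul_eq_one.1 e).symm])
      exact hne (h.mix.sylow_eq h.elem hm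
        (two_mem_sylow_of_mem_normalizer h2 (h.elem.orderOf_eq hm hne1)) hne1).symm
  have hcard : Nat.card (Option (P : Subgroup X)) =
      Nat.card {T : Sylow 2 X // (T : Subgroup X) ≤ Y} := by
    rw [← h.card_sylow_le_subgroup hP, hc, Finite.card_option, h.card P]
  have hsurj := ((Nat.bijective_iff_injective_and_card f).2 ⟨hf, hcard⟩).2
  obtain ⟨o, ho⟩ := hsurj ⟨T, hT⟩
  rcases o with _ | s
  · exact Or.inl (congrArg Subtype.val ho).symm
  · exact Or.inr ⟨s, s.2, (congrArg Subtype.val ho).symm⟩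

end Hyp

end Cfsg.Agent.SubConj42
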